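import Cfsg.Agent.Lib.UnitaryMax.Comp

/-!
Hyperbolic frames of a four-dimensional unitary space and the special unitary maps given by their matrices.
-/

set_option autoImplicit false
set_option linter.unusedSectionVars false

namespace Cfsg.Agent.Lib.SUFour91

open Matrix Cfsg.Agent.Lib Cfsg.Agent.Lib.Forms Cfsg.Agent.Lib.FormMax Cfsg.Agent.Lib.UnitaryMax

variable {F : Type*} [Field F] [Fintype F] {q : ℕ}

local notation "Vs" => (Fin 4 → F)
local notation "h" => Cfsg.hermForm 4 F q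

/-- Two mutually orthogonal hyperbolic pairs. -/
structure IsFrame (q : ℕ) (e₀ e₁ e₂ e₃ : Fin 4 → F) : Prop where
  h00 : Cfsg.hermForm 4 F q e₀ e₀ = 0
  h11 : Cfsg.hermForm 4 F q e₁ e₁ = 0
  h22 : Cfsg.hermForm 4 F q e₂ e₂ = 0
  h33 : Cfsg.hermForm 4 F q e₃ e₃ = 0
  h01 : Cfsg.hermForm 4 F q e₀ e₁ = 1
  h23 : Cfsg.hermForm 4 F q e₂ e₃ = 1
  h02 : Cfsg.hermForm 4 F q e₀ e₂ = 0
  h03 : Cfsg.hermForm 4 F q e₀ e₃ = 0
  h12 : Cfsg.hermForm 4 F q e₁ e₂ = 0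
  h13 : Cfsg.hermForm 4 F q e₁ e₃ = 0

/-- The form in frame coordinates. -/
def frameForm (q : ℕ) (x y : Fin 4 → F) : F :=
  x 0 * y 1 ^ q + x 1 * y 0 ^ q + x 2 * y 3 ^ q + x 3 * y 2 ^ q

/-- The vector with given frame coordinates. -/
def comb (e₀ e₁ e₂ e₃ : Fin 4 → F) (x : Fin 4 → F) : Fin 4 → F :=
  x 0 • e₀ + x 1 • e₁ + x 2 • e₂ + x 3 • e₃

variable (hF : Fintype.card F = q ^ 2) {e₀ e₁ e₂ e₃ : Fin 4 → F} (he : IsFrame q e₀ e₁ e₂ e₃)
include hF he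

theorem herm_comb (x y : Fin 4 → F) : h (comb e₀ e₁ e₂ e₃ x) (comb e₀ e₁ e₂ e₃ y) = frameForm q x y := by
  have flip : ∀ {u v : Vs} {c : F}, h u v = c → h v u = c ^ q := fun e => by rw [← e, herm_conj hF]
  simp only [comb, frameForm, herm_add_left hF, herm_add_right hF, herm_smul_left hF, herm_smul_right hF,
    he.h00, he.h11, he.h22, he.h33, he.h01, he.h23, he.h02, he.h03, he.h12, he.h13, flip he.h01,
    flip he.h23, flip he.h02, flip he.h03, flip he.h12, flip he.h13, q_zero hF, one_pow]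
  ring

theorem herm_comb_basis (x : Fin 4 → F) :
    h (comb e₀ e₁ e₂ e₃ x) e₁ = x 0 ∧ h (comb e₀ e₁ e₂ e₃ x) e₀ = x 1 ∧
      h (comb e₀ e₁ e₂ e₃ x) e₃ = x 2 ∧ h (comb e₀ e₁ e₂ e₃ x) e₂ = x 3 := by
  have flip : ∀ {u v : Vs} {c : F}, h u v = c → h v u = c ^ q := fun e => by rw [← e, herm_conj hF]
  refine ⟨?_, ?_, ?_, ?_⟩ <;>
  · simp only [comb, herm_add_left hF, herm_smul_left hF,
      he.h00, he.h11, he.h22, he.h33, he.h01, he.h23, he.h02, he.h03, he.h12, he.h13, flip he.h01,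
      flip he.h23, flip he.h02, flip he.h03, flip he.h12, flip he.h13, q_zero hF, one_pow]
    ring

theorem comb_injective : Function.Injective (comb e₀ e₁ e₂ e₃) := by
  intro x y hxy
  have hc : ∀ j, frameForm q x (Pi.single j 1) = frameForm q y (Pi.single j 1) := fun j => by
    rw [← herm_comb hF he, hxy, herm_comb hF he]
  have h0 := hc 0
  have h1 := hc 1
  have h2 := hc 2
  have h3 := hc 3
  simp [frameForm, q_zero hF] at h0 h1 h2 h3
  funext i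
  fin_cases i <;> assumption

/-- The matrix of frame vectors. -/
theorem exists_frameMatrix : ∃ P : GL (Fin 4) F, ∀ x, (P : Matrix (Fin 4) (Fin 4) F) *ᵥ x = comb e₀ e₁ e₂ e₃ x := by
  let M : Matrix (Fin 4) (Fin 4) F := Matrix.of fun i j => ![e₀, e₁, e₂, e₃] j i
  have hM : ∀ x, M *ᵥ x = comb e₀ e₁ e₂ e₃ x := fun x => by
    funext i
    simp [M, comb, Matrix.mulVec, dotProduct, Fin.sum_univ_four]
    ring
  have hu : IsUnit M := Matrix.mulVec_injective_iff_isUnit.mp fun x y hxy => by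
    simp only [hM] at hxy
    exact comb_injective hF he hxy
  exact ⟨hu.unit, hM⟩

theorem exists_coords (v : Vs) : ∃ x, comb e₀ e₁ e₂ e₃ x = v := by
  obtain ⟨P, hP⟩ := exists_frameMatrix hF he
  exact ⟨((P⁻¹ : GL (Fin 4) F) : Matrix (Fin 4) (Fin 4) F) *ᵥ v, by rw [← hP, mulVec_inv_mulVec]⟩

/-- A matrix preserving the frame form gives an element of the special unitary group. -/
theorem exists_elem (M : Matrix (Fin 4) (Fin 4) F) (hd : M.det = 1)
    (hM : ∀ x y, frameForm q (M *ᵥ x) (M *ᵥ y) = frameForm q x y) :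
    ∃ g ∈ suGL 4 F q, ∀ x, (g : Matrix (Fin 4) (Fin 4) F) *ᵥ comb e₀ e₁ e₂ e₃ x =
      comb e₀ e₁ e₂ e₃ (M *ᵥ x) := by
  obtain ⟨P, hP⟩ := exists_frameMatrix hF he
  have hgv : ∀ x, ((P * glMk M hd * P⁻¹ : GL (Fin 4) F) : Matrix (Fin 4) (Fin 4) F) *ᵥ comb e₀ e₁ e₂ e₃ x =
      comb e₀ e₁ e₂ e₃ (M *ᵥ x) := fun x => by
    rw [Units.val_mul, Units.val_mul, ← mulVec_mulVec, ← mulVec_mulVec, glMk_val, ← hP x, ← hP,
      inv_mulVec_mulVec]
  refine ⟨P * glMk M hd * P⁻¹, mem_suGL_iff.mpr ⟨fun u v => ?_, ?_⟩, hgv⟩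
  · obtain ⟨x, rfl⟩ := exists_coords hF he u
    obtain ⟨y, rfl⟩ := exists_coords hF he v
    rw [hgv, hgv, herm_comb hF he, herm_comb hF he, hM]
  · rw [Units.val_mul, Units.val_mul, glMk_val, det_mul, det_mul, hd, mul_one, ← det_mul,
      ← Units.val_mul, mul_inv_cancel, Units.val_one, det_one]

/-- Diagonal maps. -/
theorem exists_diag (a b c d : F) (hab : a * b ^ q = 1) (hcd : c * d ^ q = 1) (hdet : a * b * c * d = 1) :
    ∃ g ∈ suGL 4 F q, ∀ x : Fin 4 → F, (g : Matrix (Fin 4) (Fin 4) F) *ᵥ comb e₀ e₁ e₂ e₃ x =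
      comb e₀ e₁ e₂ e₃ ![a * x 0, b * x 1, c * x 2, d * x 3] := by
  have hba : b * a ^ q = 1 := q_inj hF (by rw [mul_pow, pow_q_pow_q hF, one_pow, mul_comm, hab])
  have hdc : d * c ^ q = 1 := q_inj hF (by rw [mul_pow, pow_q_pow_q hF, one_pow, mul_comm, hcd])
  have hv : ∀ x : Fin 4 → F, Matrix.diagonal ![a, b, c, d] *ᵥ x = ![a * x 0, b * x 1, c * x 2, d * x 3] := by
    intro x; funext i; fin_cases i <;> simp [Matrix.mulVec_diagonal]
  obtain ⟨g, hg, hgv⟩ := exists_elem hF he (Matrix.diagonal ![a, b, c, d])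
    (by rw [det_diagonal, Fin.prod_univ_four]; simpa using hdet) (fun x y => by
      simp [hv, frameForm, mul_pow]
      linear_combination (x 0 * y 1 ^ q) * hab + (x 1 * y 0 ^ q) * hba + (x 2 * y 3 ^ q) * hcd +
        (x 3 * y 2 ^ q) * hdc)
  exact ⟨g, hg, fun x => by rw [hgv, hv]⟩

end Cfsg.Agent.Lib.SUFour91
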