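import Cfsg.Agent.Lib.UnitaryMax.Comp
import Cfsg.Agent.Lib.SUFour91.Frame

/-!
The stabiliser of a nondegenerate line is maximal in the four-dimensional special unitary group.
-/

set_option autoImplicit false
set_option linter.unusedSectionVars false

namespace Cfsg.Agent.Lib.SUFour91

open Matrix Cfsg.Agent.Lib Cfsg.Agent.Lib.Forms Cfsg.Agent.Lib.FormMax Cfsg.Agent.Lib.UnitaryMax

variable {F : Type*} [Field F] [Fintype F] {q : ℕ}

local notation "Vs" => (Fin 4 → F)
local notation "h" => Cfsg.hermForm 4 F q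

variable (hF : Fintype.card F = q ^ 2)
include hF

/-- The stabiliser of a nondegenerate line is maximal. -/
theorem isMaximalIn_line (W : Submodule F Vs) (hW0 : W ≠ ⊥) (hW : Cfsg.Geo.IsNondegenerateOn h W)
    (hdim : 2 * Module.finrank F W < 4) :
    Cfsg.Geo.IsMaximalIn (suGL 4 F q) (Cfsg.Geo.subspaceStabilizer W ⊓ suGL 4 F q) := by
  classical
  have hgood := hermSesq_goodForm (n := 4) hF
  obtain ⟨δ, hδ, hδ0⟩ := exists_skew_ne hF
  obtain ⟨w, hw, hw0⟩ := Submodule.exists_mem_ne_zero_of_ne_bot hW0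
  have hW1 : Module.finrank F W = 1 := by
    have h1 : 0 < Module.finrank F W := by
      rcases Nat.eq_zero_or_pos (Module.finrank F W) with e | e
      · exact absurd (Submodule.finrank_eq_zero.mp e) hW0
      · exact e
    omega
  have hWw : ∀ v ∈ W, ∃ c : F, v = c • w := fun v hv => by
    obtain ⟨c, hc⟩ := exists_smul_eq_of_finrank_eq_one hW1 (x := (⟨w, hw⟩ : W))
      (fun e => hw0 (congrArg Subtype.val e)) ⟨v, hv⟩
    exact ⟨c, (congrArg Subtype.val hc).symm⟩
  have hww : h w w ≠ 0 := fun e => by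
    obtain ⟨x, hx, hxw⟩ := (hW w hw hw0).1
    obtain ⟨c, rfl⟩ := hWw x hx
    rw [herm_smul_left hF, e, mul_zero] at hxw
    exact hxw rfl
  set U := perp (hermSesq hF 4) W with hUdef
  have hUmem : ∀ {v : Vs}, v ∈ U ↔ h v w = 0 := by
    intro v
    constructor
    · intro hv
      simp only [hUdef, mem_perp, hermSesq_apply] at hv
      simpa using hv w hw
    · intro hv
      simp only [hUdef, mem_perp, hermSesq_apply]
      intro x hx
      obtain ⟨c, rfl⟩ := hWw x hx
      rw [herm_smul_right hF, hv, mul_zero]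
  have hU3 : Module.finrank F U = 3 := by
    have h1 : Module.finrank F W + Module.finrank F U = 4 := by
      rw [hgood.finrank_add_finrank_perp, Module.finrank_fin_fun]
    omega
  have hsplit : ∀ v : Vs, v - (h v w / h w w) • w ∈ U := fun v => hUmem.mpr (by
    rw [h_sub_left hF, herm_smul_left hF, div_mul_cancel₀ _ hww, sub_self])
  have hnd : Nondeg q U := fun x hx hx0 => by
    obtain ⟨y, hy⟩ := exists_h_ne hF hx0
    refine ⟨_, hsplit y, ?_⟩
    rw [h_sub_right hF, herm_smul_right hF, hUmem.mp hx, mul_zero, sub_zero]; exact hy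
  have hnorm : ∀ (c : F) {b : Vs}, b ∈ U → h (c • w + b) (c • w + b) = c * c ^ q * h w w + h b b := fun c b hb => by
    rw [herm_add_left hF, herm_add_right hF, herm_add_right hF, herm_smul_left hF, herm_smul_left hF,
      herm_smul_right hF, herm_smul_right hF, hUmem.mp hb, h_symm hF (hUmem.mp hb)]
    ring
  obtain ⟨a, ha, a', ha', haa, ha'a', haa'⟩ := exists_hyp hF hnd (by omega)
  refine ⟨lt_of_le_of_ne inf_le_right fun e => ?_, fun H hMH hHK => ?_⟩
  · obtain ⟨z, hz, hzz⟩ := exists_aniso hF hnd fun e' => by rw [e', finrank_bot] at hU3; omega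
    obtain ⟨c, hc⟩ := exists_norm_eq (qPowHom_ne_id hF) (qPowHom_qPowHom hF) (c := -(h w w) / h z z)
      (by rw [qPowHom_apply, div_pow, q_neg hF, herm_conj hF, herm_conj hF])
    rw [qPowHom_apply] at hc
    have hs : h ((1 : F) • w + c • z) ((1 : F) • w + c • z) = 0 := by
      rw [hnorm 1 (U.smul_mem c hz), herm_smul_left hF, herm_smul_right hF, ← mul_assoc, hc,
        div_mul_cancel₀ _ hzz]
      ring
    have h1 := (mem_stab_iff.mp (e.ge (T_mem hF _ hs hδ)).1 w).mp hw
    obtain ⟨d, hd⟩ := hWw _ h1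
    have h2 := congrArg (fun v => h v (c • z)) hd
    simp only [T_mulVec, herm_add_left hF, herm_smul_left hF, herm_add_right hF, herm_smul_right hF, one_pow,
      one_mul, h_symm hF (hUmem.mp hz), mul_zero, add_zero, zero_add] at h2
    have hc0 : c ≠ 0 := fun e => hww (by
      rw [e, zero_mul, eq_comm, div_eq_zero_iff] at hc; simpa [hzz] using hc)
    exact mul_ne_zero (mul_ne_zero hδ0 hww) (mul_ne_zero (mul_ne_zero hc0 (pow_ne_zero q hc0)) hzz)
      (by linear_combination h2)
  by_cases hle : H ≤ Cfsg.Geo.subspaceStabilizer W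
  · exact Or.inl (le_antisymm (le_inf hle hHK) hMH)
  right
  obtain ⟨g, hgH, hg⟩ := SetLike.not_le_iff_exists.mp hle
  have hfix : ∀ g ∈ suGL 4 F q, (g : Matrix (Fin 4) (Fin 4) F) *ᵥ w ∈ W → g ∈ H := fun g hg h1 =>
    hMH ⟨mem_stab_of_maps fun v hv => by
      obtain ⟨c, rfl⟩ := hWw v hv
      rw [mulVec_smul]; exact W.smul_mem c h1, hg⟩
  have hUroot : ∀ x ∈ U, h x x = 0 → x ∈ root q H := fun x hx hxx => ⟨hxx, fun c hc => hfix _ (T_mem hF x hxx hc)
    (by rw [T_mulVec, h_symm hF (hUmem.mp hx), mul_zero, zero_smul, add_zero]; exact hw)⟩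
  -- a root vector off the hyperplane
  obtain ⟨r, hr, hrU⟩ : ∃ r ∈ root q H, h r w ≠ 0 := by
    by_contra hno
    push Not at hno
    have hgU : ∀ x ∈ U, (g : Matrix (Fin 4) (Fin 4) F) *ᵥ x ∈ U := by
      intro x hx
      have hspan := span_singular hF ha haa ⟨a', ha', fun e => by rw [h_symm hF e] at haa'; exact zero_ne_one haa'⟩
      have h5 : x ∈ U.comap (Matrix.mulVecLin (g : Matrix (Fin 4) (Fin 4) F)) :=
        (hspan.trans (Submodule.span_le.mpr fun y hy =>
          show (g : Matrix (Fin 4) (Fin 4) F) *ᵥ y ∈ U from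
            hUmem.mpr (hno _ (root_map hHK hgH (hUroot y hy.1 hy.2))))) hx
      exact h5
    refine hg (mem_stab_of_maps fun v hv => ?_)
    set y := (g : Matrix (Fin 4) (Fin 4) F) *ᵥ v with hy
    have hL : Function.Injective fun x : U => (⟨_, hgU x x.2⟩ : U) := fun x x' e => Subtype.ext (by
      have h1 := congrArg (fun v : U => ((g⁻¹ : GL (Fin 4) F) : Matrix (Fin 4) (Fin 4) F) *ᵥ (v : Vs)) e
      simpa [mulVec_mulVec] using h1)
    obtain ⟨⟨z, hz⟩, hzy⟩ := (Finite.injective_iff_surjective.mp hL) ⟨_, hsplit y⟩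
    have hzy' : (g : Matrix (Fin 4) (Fin 4) F) *ᵥ z = y - (h y w / h w w) • w := congrArg Subtype.val hzy
    obtain ⟨c, hc⟩ := hWw v hv
    have h1 : h y ((g : Matrix (Fin 4) (Fin 4) F) *ᵥ z) = 0 := by
      rw [hy, apply_K (hHK hgH), hc, herm_smul_left hF, h_symm hF (hUmem.mp hz), mul_zero]
    -- the component of `y` in the hyperplane is orthogonal to all of it
    have hzero : y - (h y w / h w w) • w = 0 := by
      refine (hermSesq_goodForm hF).nondeg _ fun x => ?_
      rw [hermSesq_apply]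
      refine h_symm hF ?_
      obtain ⟨⟨x', hx'⟩, hxx'⟩ := (Finite.injective_iff_surjective.mp hL) ⟨_, hsplit x⟩
      have hxe : (g : Matrix (Fin 4) (Fin 4) F) *ᵥ x' = x - (h x w / h w w) • w := congrArg Subtype.val hxx'
      have h2 : h y ((g : Matrix (Fin 4) (Fin 4) F) *ᵥ x') = 0 := by
        rw [hy, apply_K (hHK hgH), hc, herm_smul_left hF, h_symm hF (hUmem.mp hx'), mul_zero]
      have hw1 : h (y - (h y w / h w w) • w) w = 0 := hUmem.mp (hsplit y)
      rw [show x = (g : Matrix (Fin 4) (Fin 4) F) *ᵥ x' + (h x w / h w w) • w by rw [hxe, sub_add_cancel],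
        herm_add_right hF, herm_smul_right hF, hw1, mul_zero, add_zero, h_sub_left hF, h2, herm_smul_left hF,
        h_symm hF (hUmem.mp (hgU x' hx')), mul_zero, sub_zero]
    rw [sub_eq_zero.mp hzero]
    exact W.smul_mem _ hw
  set l := h r w / h w w with hl
  have hl0 : l ≠ 0 := div_ne_zero hrU hww
  set b := r - l • w with hb
  have hbU : b ∈ U := hsplit r
  refine eq_suGL hF (by omega) (by omega) hHK fun v hv => ?_
  by_cases hvw : h v w = 0
  · exact hUroot v (hUmem.mpr hvw) hv
  set m := h v w / h w w with hm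
  have hm0 : m ≠ 0 := div_ne_zero hvw hww
  set c := v - m • w with hc
  have hcU : c ∈ U := hsplit v
  have hr' : m • w + (m / l) • b ∈ root q H := by
    have h1 := root_smul hF hr (m / l)
    rwa [show r = l • w + b by rw [hb]; abel, smul_add, smul_smul, div_mul_cancel₀ _ hl0] at h1
  have hb'U : (m / l) • b ∈ U := U.smul_mem _ hbU
  have hvd : v = m • w + c := by rw [hc]; abel
  have e1 : h ((m / l) • b) ((m / l) • b) = -(m * m ^ q * h w w) := by
    have h1 := hr'.1; rw [hnorm m hb'U] at h1; linear_combination h1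
  have e2 : h c c = -(m * m ^ q * h w w) := by
    have h1 := hv; rw [hvd, hnorm m hcU] at h1; linear_combination h1
  have hne : -(m * m ^ q * h w w) ≠ 0 :=
    neg_ne_zero.mpr (mul_ne_zero (mul_ne_zero hm0 (pow_ne_zero _ hm0)) hww)
  have hn0 : ∀ x : Vs, h x x = -(m * m ^ q * h w w) → x ≠ 0 := fun x hx e => hne (by rw [← hx, e, h_zero_left hF])
  rw [hvd]
  refine two_step hF hnd (P := fun x => m • w + x ∈ root q H) ?_ hb'U hcU (hn0 _ e1) (hn0 _ e2) e1 e2 hr'
  intro s u hs hu _ _ hss huu hne' hsb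
  obtain ⟨z, hz, hzs, hzz⟩ := exists_aniso_orth hF hnd (by omega) hs
  obtain ⟨g₁, hg₁, hg₁s, α, β, hg₁v⟩ := exists_step hF (a := s) (a' := u) (z := z)
    (by rw [huu, hss]) (by rw [h_sub_right hF, hss]; exact sub_ne_zero.mpr hne') hzz (h_symm hF hzs)
  have hgw : (g₁ : Matrix (Fin 4) (Fin 4) F) *ᵥ w = w := by
    rw [hg₁v w (Or.inl (h_symm hF (hUmem.mp hz))), h_symm hF (hUmem.mp hz),
      h_symm hF (hUmem.mp (U.sub_mem hu hs)), mul_zero, zero_smul, mul_zero, zero_smul, add_zero, add_zero]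
  have h1 := root_map hHK (hfix g₁ hg₁ (by rw [hgw]; exact hw)) hsb
  rwa [mulVec_add, mulVec_smul, hgw, hg₁s] at h1

end Cfsg.Agent.Lib.SUFour91
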