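import Cfsg.Agent.Lib.UnitaryMax.Decomp
import Cfsg.Agent.Lib.SUFour91.Frame

/-!
The stabiliser of two orthogonal nondegenerate planes is maximal in the four-dimensional special unitary group.
-/

set_option autoImplicit false
set_option linter.unusedSectionVars false

namespace Cfsg.Agent.Lib.SUFour91

open Matrix Cfsg.Agent.Lib Cfsg.Agent.Lib.Forms Cfsg.Agent.Lib.FormMax Cfsg.Agent.Lib.UnitaryMax

variable {F : Type*} [Field F] [Fintype F] {q : ℕ}

local notation "Vs" => (Fin 4 → F)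
local notation "h" => Cfsg.hermForm 4 F q

variable (hF : Fintype.card F = q ^ 2)
include hF

/-- An element whose `q - 1` power is not a square root of one. -/
theorem exists_ratio_moved : ∃ γ : F, γ ≠ 0 ∧ (γ ^ q / γ) ^ 2 ≠ 1 := by
  obtain ⟨g, hg⟩ := IsCyclic.exists_generator (α := Fˣ)
  refine ⟨(g : F), g.ne_zero, fun e => ?_⟩
  have hq := two_le_of_card_sq hF
  have h1 : g ^ (2 * (q - 1)) = 1 := Units.ext (by
    rw [Units.val_pow_eq_pow_val, Units.val_one, ← e, mul_comm, pow_mul, pow_sub₀ _ g.ne_zero (by omega),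
      pow_one, div_eq_mul_inv])
  have hord : orderOf g = Fintype.card F - 1 := by
    classical
    rw [orderOf_eq_card_of_forall_mem_zpowers hg, Nat.card_eq_fintype_card, Fintype.card_units]
  have h3 := Nat.le_of_dvd (by omega) (orderOf_dvd_of_pow_eq_one h1)
  rw [hord, hF, Nat.sub_le_iff_le_add] at h3
  have : 2 * q ≤ q ^ 2 := by nlinarith
  omega

variable {H : Subgroup (GL (Fin 4) F)} {X Y : Submodule F (Fin 4 → F)}
  (hH : H ≤ suGL 4 F q)
  (hX : Nondeg q X) (hY : Nondeg q Y) (hXY : ∀ x ∈ X, ∀ y ∈ Y, Cfsg.hermForm 4 F q x y = 0)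
  (hdX : Module.finrank F X = 2) (hdY : Module.finrank F Y = 2)
  (hfix : ∀ g ∈ suGL 4 F q, (∀ x ∈ X, (g : Matrix (Fin 4) (Fin 4) F) *ᵥ x ∈ X) →
    (∀ y ∈ Y, (g : Matrix (Fin 4) (Fin 4) F) *ᵥ y ∈ Y) → g ∈ H)
include hH hX hY hXY hdX hdY hfix

theorem root_left {x : Vs} (hx : x ∈ X) (hxx : h x x = 0) : x ∈ root q H :=
  ⟨hxx, fun c hc => hfix _ (T_mem hF x hxx hc)
    (fun v hv => by rw [T_mulVec]; exact X.add_mem hv (X.smul_mem _ hx))
    (fun v hv => by rw [T_mulVec, h_symm hF (hXY x hx v hv), mul_zero, zero_smul, add_zero]; exact hv)⟩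

theorem move_left {a a' b : Vs} (ha : a ∈ X) (ha' : a' ∈ X) (hb : b ∈ Y) (ha0 : a ≠ 0) (ha'0 : a' ≠ 0)
    (hbb : h b b ≠ 0) (hnorm : h a' a' = h a a) (hab : a + b ∈ root q H) : a' + b ∈ root q H := by
  obtain ⟨Y', hY', hmem, hd⟩ := exists_compl hF hY hb hbb
  obtain ⟨z, hz', hzz⟩ := exists_aniso hF hY' fun e => by rw [e, finrank_bot] at hd; omega
  obtain ⟨hz, hzb⟩ := hmem z hz'
  refine two_step hF hX (P := fun v => v + b ∈ root q H) ?_ ha ha' ha0 ha'0 rfl hnorm hab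
  intro s u hs hu _ _ hss huu hne hsb
  obtain ⟨g₁, hg₁, hg₁s, α, β, hg₁v⟩ := exists_step hF (a := s) (a' := u) (z := z)
    (by rw [huu, hss]) (by rw [h_sub_right hF, hss]; exact sub_ne_zero.mpr hne) hzz (hXY s hs z hz)
  have hd' : u - s ∈ X := X.sub_mem hu hs
  have hv : ∀ v, (g₁ : Matrix (Fin 4) (Fin 4) F) *ᵥ v = v + (α * h v (u - s)) • (u - s) + (β * h v z) • z :=
    fun v => hg₁v v (Or.inr (hXY _ hd' z hz))
  have hgH₁ : g₁ ∈ H := hfix g₁ hg₁
    (fun v hvX => by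
      rw [hv, hXY v hvX z hz, mul_zero, zero_smul, add_zero]
      exact X.add_mem hvX (X.smul_mem _ hd'))
    (fun v hvY => by
      rw [hv, h_symm hF (hXY _ hd' v hvY), mul_zero, zero_smul, add_zero]
      exact Y.add_mem hvY (Y.smul_mem _ hz))
  have h1 := root_map hH hgH₁ hsb
  rwa [mulVec_add, hg₁s, hv b, h_symm hF (hXY _ hd' b hb), h_symm hF hzb, mul_zero, zero_smul, mul_zero,
    zero_smul, add_zero, add_zero] at h1

omit hH hX hY hdX hdY hfix in
theorem norm_add {a b : Vs} (ha : a ∈ X) (hb : b ∈ Y) : h (a + b) (a + b) = h a a + h b b := by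
  rw [herm_add_left hF, herm_add_right hF, herm_add_right hF, hXY a ha b hb, h_symm hF (hXY a ha b hb)]
  ring

theorem root_aniso {a₀ b₀ : Vs} (ha₀ : a₀ ∈ X) (hb₀ : b₀ ∈ Y) (hn₀ : h a₀ a₀ ≠ 0)
    (hr : a₀ + b₀ ∈ root q H) {a b : Vs} (ha : a ∈ X) (hb : b ∈ Y) (hn : h a a ≠ 0)
    (hs : h (a + b) (a + b) = 0) : a + b ∈ root q H := by
  have hne : ∀ v : Vs, h v v ≠ 0 → v ≠ 0 := fun v hv e => hv (by rw [e, h_zero_left hF])
  have hb' : h b b = -(h a a) := by
    rw [norm_add hF hXY ha hb] at hs; linear_combination hs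
  obtain ⟨c, hc⟩ := exists_norm_eq (qPowHom_ne_id hF) (qPowHom_qPowHom hF) (c := h a a / h a₀ a₀)
    (by rw [qPowHom_apply, div_pow, herm_conj hF, herm_conj hF])
  rw [qPowHom_apply] at hc
  have hca : h (c • a₀) (c • a₀) = h a a := by
    rw [herm_smul_left hF, herm_smul_right hF, ← mul_assoc, hc, div_mul_cancel₀ _ hn₀]
  have hr1 : c • a₀ + c • b₀ ∈ root q H := by rw [← smul_add]; exact root_smul hF hr c
  have hcb : h (c • b₀) (c • b₀) = h b b := by
    have h1 := hr1.1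
    rw [norm_add hF hXY (X.smul_mem c ha₀) (Y.smul_mem c hb₀), hca] at h1
    rw [hb']; linear_combination h1
  have hb0 : h (c • b₀) (c • b₀) ≠ 0 := by rw [hcb, hb']; exact neg_ne_zero.mpr hn
  have h2 := move_left hF hH hX hY hXY hdX hdY hfix (X.smul_mem c ha₀) ha (Y.smul_mem c hb₀)
    (hne _ (by rw [hca]; exact hn)) (hne _ hn) hb0 hca.symm hr1
  rw [add_comm] at h2 ⊢
  exact move_left hF hH hY hX (fun y hy x hx => h_symm hF (hXY x hx y hy)) hdY hdX
    (fun g hg h1 h2 => hfix g hg h2 h1) (Y.smul_mem c hb₀) hb ha (hne _ hb0)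
    (hne _ (by rw [hb']; exact neg_ne_zero.mpr hn)) hn hcb.symm h2

omit hH hfix in
/-- A frame through given singular vectors of the planes. -/
theorem exists_frame {a b : Vs} (ha : a ∈ X) (hb : b ∈ Y) (ha0 : a ≠ 0) (hb0 : b ≠ 0) (haa : h a a = 0)
    (hbb : h b b = 0) : ∃ f ∈ X, ∃ f' ∈ Y, IsFrame q a f b f' := by
  obtain ⟨f, hf, hff, haf⟩ := exists_partner_one hF hX ha ha0 haa
  obtain ⟨f', hf', hff', hbf⟩ := exists_partner_one hF hY hb hb0 hbb
  exact ⟨f, hf, f', hf', haa, hff, hbb, hff', haf, hbf, hXY a ha b hb, hXY a ha f' hf', hXY f hf b hb,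
    hXY f hf f' hf'⟩

omit hH hX hY hdX hdY hfix in
theorem mem_span_frame {a f b f' : Vs} (hb : b ∈ Y) (hf' : f' ∈ Y) (he : IsFrame q a f b f')
    {x : Fin 4 → F} (hx : comb a f b f' x ∈ X) : x 2 = 0 ∧ x 3 = 0 := by
  obtain ⟨-, -, e3, e2⟩ := herm_comb_basis hF he x
  exact ⟨e3 ▸ hXY _ hx f' hf', e2 ▸ hXY _ hx b hb⟩

theorem exists_aniso_root {a b : Vs} (ha : a ∈ X) (hb : b ∈ Y) (ha0 : a ≠ 0) (hb0 : b ≠ 0)
    (hr : a + b ∈ root q H) : ∃ a₁ ∈ X, ∃ b₁ ∈ Y, h a₁ a₁ ≠ 0 ∧ a₁ + b₁ ∈ root q H := by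
  by_cases haa : h a a = 0
  swap
  · exact ⟨a, ha, b, hb, haa, hr⟩
  have hbb : h b b = 0 := by
    have h1 := hr.1
    rw [norm_add hF hXY ha hb, haa, zero_add] at h1
    exact h1
  obtain ⟨f, hf, f', hf', he⟩ := exists_frame hF hX hY hXY hdX hdY ha hb ha0 hb0 haa hbb
  obtain ⟨δ, hδ, hδ0⟩ := exists_skew_ne hF
  obtain ⟨γ, hγ0, hγ⟩ := exists_ratio_moved hF
  have hγq : γ ^ q ≠ 0 := pow_ne_zero _ hγ0
  obtain ⟨g, hg, hgv⟩ := exists_diag hF he γ (γ ^ q)⁻¹ γ⁻¹ (γ ^ q)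
    (by rw [inv_pow, pow_q_pow_q hF, mul_inv_cancel₀ hγ0]) (by rw [pow_q_pow_q hF, inv_mul_cancel₀ hγ0])
    (by field_simp)
  have hgH : g ∈ H := by
    refine hfix g hg (fun v hv => ?_) (fun v hv => ?_)
    · obtain ⟨x, rfl⟩ := exists_coords hF he v
      obtain ⟨x2, x3⟩ := mem_span_frame hF hXY hb hf' he hv
      rw [hgv]
      simp only [comb, x2, x3, mul_zero, zero_smul, add_zero, Matrix.cons_val]
      exact X.add_mem (X.smul_mem _ ha) (X.smul_mem _ hf)
    · obtain ⟨x, rfl⟩ := exists_coords hF he v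
      obtain ⟨e0, e1, -, -⟩ := herm_comb_basis hF he x
      have x0 : x 0 = 0 := e0 ▸ h_symm hF (hXY f hf _ hv)
      have x1 : x 1 = 0 := e1 ▸ h_symm hF (hXY a ha _ hv)
      rw [hgv]
      simp only [comb, x0, x1, mul_zero, zero_smul, zero_add, Matrix.cons_val]
      exact Y.add_mem (Y.smul_mem _ hb) (Y.smul_mem _ hf')
  have hfr : f ∈ root q H := root_left hF hH hX hY hXY hdX hdY hfix hf he.h11
  have hf'r : f' ∈ root q H := root_left hF hH hY hX (fun y hy x hx => h_symm hF (hXY x hx y hy)) hdY hdX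
    (fun g hg h1 h2 => hfix g hg h2 h1) hf' he.h33
  have hu := root_map hH (mul_mem (mul_mem hgH (hf'r.2 δ hδ)) (hfr.2 δ hδ)) hr
  have e : a + b = comb a f b f' ![1, 0, 1, 0] := by simp [comb]
  have hu' : comb a f b f' ![γ, δ / γ ^ q, γ⁻¹, δ * γ ^ q] ∈ root q H := by
    have h1 : h (a + b) f = 1 := by rw [herm_add_left hF, he.h01, h_symm hF he.h12, add_zero]
    have h2 : h (a + b + δ • f) f' = 1 := by
      simp only [herm_add_left hF, herm_smul_left hF, he.h03, he.h23, he.h13]; ring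
    have h3 : a + b + δ • f + δ • f' = comb a f b f' ![1, δ, 1, δ] := by simp [comb]; abel
    have hA : (T f δ he.h11 : Matrix (Fin 4) (Fin 4) F) *ᵥ (a + b) = a + b + δ • f := by
      rw [T_mulVec, h1, mul_one]
    have hB : (T f' δ he.h33 : Matrix (Fin 4) (Fin 4) F) *ᵥ (a + b + δ • f) = a + b + δ • f + δ • f' := by
      rw [T_mulVec, h2, mul_one]
    rw [Units.val_mul, Units.val_mul, ← mulVec_mulVec, ← mulVec_mulVec, hA, hB, h3, hgv] at hu
    convert hu using 2
    funext i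
    fin_cases i <;> simp <;> ring
  have hT := root_map hH (hr.2 δ hδ) hu'
  rw [T_mulVec, e, herm_comb hF he] at hT
  set k := δ * frameForm q ![γ, δ / γ ^ q, γ⁻¹, δ * γ ^ q] ![1, 0, 1, 0] with hk
  refine ⟨(γ + k) • a + (δ / γ ^ q) • f, X.add_mem (X.smul_mem _ ha) (X.smul_mem _ hf),
    (γ⁻¹ + k) • b + (δ * γ ^ q) • f', Y.add_mem (Y.smul_mem _ hb) (Y.smul_mem _ hf'), ?_, ?_⟩
  · have e1 : (γ + k) • a + (δ / γ ^ q) • f = comb a f b f' ![γ + k, δ / γ ^ q, 0, 0] := by simp [comb]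
    rw [e1, herm_comb hF he]
    simp only [frameForm, Matrix.cons_val, hk, q_zero hF, q_add hF, mul_pow, div_pow, pow_q_pow_q hF,
      one_pow, mul_zero, add_zero, zero_add, mul_one,
      eq_neg_of_add_eq_zero_right hδ]
    intro hcon
    field_simp at hcon
    apply hγ
    have hδ3 : δ ^ 3 ≠ 0 := pow_ne_zero _ hδ0
    rw [div_pow, div_eq_one_iff_eq (pow_ne_zero _ hγ0)]
    apply mul_left_cancel₀ hδ3
    linear_combination -hcon
  · convert hT using 1
    simp [comb]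
    module

/-- Everything follows from one root vector with two components. -/
theorem eq_top_of_mixed (hq : 3 ≤ q) (hsup : X ⊔ Y = ⊤) {a₀ b₀ : Vs} (ha₀ : a₀ ∈ X) (hb₀ : b₀ ∈ Y)
    (ha₀0 : a₀ ≠ 0) (hb₀0 : b₀ ≠ 0) (hr₀ : a₀ + b₀ ∈ root q H) : H = suGL 4 F q := by
  obtain ⟨a₁, ha₁, b₁, hb₁, hn₁, hr₁⟩ := exists_aniso_root hF hH hX hY hXY hdX hdY hfix ha₀ hb₀ ha₀0 hb₀0 hr₀
  refine eq_suGL hF (by omega) (by omega) hH fun v hv => ?_
  obtain ⟨a, ha, b, hb, rfl⟩ := Submodule.mem_sup.mp (hsup.ge (Submodule.mem_top (x := v)))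
  have hsum := hv
  rw [norm_add hF hXY ha hb] at hsum
  rcases eq_or_ne a 0 with rfl | ha0
  · rw [h_zero_left hF, zero_add] at hsum
    rw [zero_add]
    exact root_left hF hH hY hX (fun y hy x hx => h_symm hF (hXY x hx y hy)) hdY hdX
      (fun g hg h1 h2 => hfix g hg h2 h1) hb hsum
  rcases eq_or_ne b 0 with rfl | hb0
  · rw [h_zero_left hF, add_zero] at hsum
    rw [add_zero]
    exact root_left hF hH hX hY hXY hdX hdY hfix ha hsum
  by_cases haa : h a a = 0
  swap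
  · exact root_aniso hF hH hX hY hXY hdX hdY hfix ha₁ hb₁ hn₁ hr₁ ha hb haa hv
  have hbb : h b b = 0 := by linear_combination hsum - haa
  obtain ⟨f, hf, f', hf', he⟩ := exists_frame hF hX hY hXY hdX hdY ha hb ha0 hb0 haa hbb
  obtain ⟨δ, hδ, hδ0⟩ := exists_skew_ne hF
  obtain ⟨τ, hτ⟩ := exists_trace_one hF
  have hτ0 : τ ≠ 0 := fun x => by rw [x, q_zero hF, zero_add] at hτ; exact zero_ne_one hτ
  obtain ⟨s, hs, hs0, hs1⟩ : ∃ s : F, s ^ q = s ∧ s ≠ 0 ∧ s ≠ 1 := by
    obtain ⟨ε, hε, hε0, hεδ⟩ := exists_fixed_skew_ne hF hq hδ hδ0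
    refine ⟨-ε / δ, ?_, div_ne_zero (neg_ne_zero.mpr hε0) hδ0, fun e => hεδ ?_⟩
    · rw [div_pow, q_neg hF, eq_neg_of_add_eq_zero_right hε, eq_neg_of_add_eq_zero_right hδ, neg_div_neg_eq]
    · rw [div_eq_one_iff_eq hδ0] at e; rw [← e]; ring
  have hs1' : s - 1 ≠ 0 := sub_ne_zero.mpr hs1
  have hτq : τ ^ q ≠ 0 := pow_ne_zero _ hτ0
  set u := (a + τ • f) + ((-τ / (τ ^ q * (s - 1))) • b + (τ * (s - 1)) • f') with hudef
  set k := δ * τ ^ q * s with hk
  have hk0 : k ≠ 0 := mul_ne_zero (mul_ne_zero hδ0 hτq) hs0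
  have hvu : δ * h (a + b) u = k := by
    rw [hudef, show a + b = comb a f b f' ![1, 0, 1, 0] by simp [comb],
      show a + τ • f + ((-τ / (τ ^ q * (s - 1))) • b + (τ * (s - 1)) • f') =
        comb a f b f' ![1, τ, -τ / (τ ^ q * (s - 1)), τ * (s - 1)] by simp [comb]; abel, herm_comb hF he]
    simp only [frameForm, Matrix.cons_val, mul_pow, q_sub hF, one_pow, hs, hk, zero_mul, one_mul, add_zero]
    ring
  have hu : u ∈ root q H := by
    refine root_aniso hF hH hX hY hXY hdX hdY hfix ha₁ hb₁ hn₁ hr₁ (X.add_mem ha (X.smul_mem _ hf))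
      (Y.add_mem (Y.smul_mem _ hb) (Y.smul_mem _ hf')) ?_ ?_
    · rw [show a + τ • f = comb a f b f' ![1, τ, 0, 0] by simp [comb], herm_comb hF he]
      simp only [frameForm, Matrix.cons_val, q_zero hF, mul_zero, add_zero, one_mul, one_pow, mul_one]
      rw [add_comm, hτ]; exact one_ne_zero
    · rw [show a + τ • f + ((-τ / (τ ^ q * (s - 1))) • b + (τ * (s - 1)) • f') =
        comb a f b f' ![1, τ, -τ / (τ ^ q * (s - 1)), τ * (s - 1)] by simp [comb]; abel, herm_comb hF he]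
      simp only [frameForm, Matrix.cons_val, mul_pow, div_pow, q_neg hF, q_sub hF, one_pow, hs, pow_q_pow_q hF]
      field_simp
      ring
  set w := (a + b) + (-k) • u with hw
  have hwu : h w u = h (a + b) u := by rw [hw, herm_add_left hF, herm_smul_left hF, hu.1, mul_zero, add_zero]
  have hTw : (T u δ hu.1 : Matrix (Fin 4) (Fin 4) F) *ᵥ w = a + b := by
    rw [T_mulVec, hwu, hvu, hw]; module
  have hwr : w ∈ root q H := by
    have hw' : w = ((1 - k) • a + (-(k * τ)) • f) +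
        ((1 + k * (τ / (τ ^ q * (s - 1)))) • b + (-(k * (τ * (s - 1)))) • f') := by
      rw [hw, hudef]; match_scalars <;> ring
    have hw0 : h w w = 0 := by
      have h1 := apply_K (T_mem hF u hu.1 hδ) w w
      rw [hTw, hv] at h1
      exact h1.symm
    rw [hw'] at hw0 ⊢
    refine root_aniso hF hH hX hY hXY hdX hdY hfix ha₁ hb₁ hn₁ hr₁ (X.add_mem (X.smul_mem _ ha) (X.smul_mem _ hf))
      (Y.add_mem (Y.smul_mem _ hb) (Y.smul_mem _ hf')) ?_ hw0
    rw [show (1 - k) • a + (-(k * τ)) • f = comb a f b f' ![1 - k, -(k * τ), 0, 0] by simp [comb],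
      herm_comb hF he]
    simp only [frameForm, Matrix.cons_val, q_zero hF, mul_zero, add_zero, q_neg hF, q_sub hF, mul_pow, one_pow]
    have hkq : k ^ q = -δ * τ * s := by
      rw [hk, mul_pow, mul_pow, pow_q_pow_q hF, hs, eq_neg_of_add_eq_zero_right hδ]
    intro hcon
    have hprod : k * k ^ q = 0 := by
      rw [hk] at hcon ⊢
      simp only [mul_pow, pow_q_pow_q hF, hs, eq_neg_of_add_eq_zero_right hδ] at hcon hτ ⊢
      linear_combination hcon - (δ * τ ^ q * s) * (-δ * τ * s) * hτ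
    exact mul_ne_zero hk0 (pow_ne_zero _ hk0) hprod
  exact hTw ▸ root_map hH (hu.2 δ hδ) hwr

omit hH hX hY hXY hdX hdY hfix

/-- The stabiliser of a decomposition into two orthogonal nondegenerate planes is maximal. -/
theorem isMaximalIn_planes (hq : 3 ≤ q) (D : Fin 2 → Submodule F Vs)
    (hD : Cfsg.Geo.IsNondegenerateMDecomposition (Cfsg.hermForm 4 F q) 2 D) :
    Cfsg.Geo.IsMaximalIn (suGL 4 F q) (Cfsg.Geo.decompositionStabilizer D ⊓ suGL 4 F q) := by
  classical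
  set X := D 0 with hXdef
  set Y := D 1 with hYdef
  have hXY : ∀ x ∈ X, ∀ y ∈ Y, h x y = 0 := fun x hx y hy => hD.orthogonal 0 1 (by decide) x hx y hy
  have hnd : ∀ i, Nondeg q (D i) := fun i x hx h0 => (hD.nondegenerate i x hx h0).2
  have hd : ∀ i, Module.finrank F (D i) = 2 := hD.decomp.finrank_eq
  have hsup : X ⊔ Y = ⊤ := by
    rw [eq_top_iff, ← hD.decomp.iSup_eq_top]
    refine iSup_le fun i => ?_
    fin_cases i
    · exact le_sup_left
    · exact le_sup_right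
  have h2 : ∀ i : Fin 2, i = 0 ∨ i = 1 := by decide
  obtain ⟨e, he, f, hf, hee, hff, hef⟩ := exists_hyp hF (hnd 0) (hd 0).ge
  obtain ⟨e', he', f', hf', hee', hff', hef'⟩ := exists_hyp hF (hnd 1) (hd 1).ge
  have hfr : IsFrame q e f e' f' := ⟨hee, hff, hee', hff', hef, hef', hXY e he e' he', hXY e he f' hf',
    hXY f hf e' he', hXY f hf f' hf'⟩
  have he0 : e ≠ 0 := fun x => by rw [x, h_zero_left hF] at hef; exact zero_ne_one hef
  have he'0 : e' ≠ 0 := fun x => by rw [x, h_zero_left hF] at hef'; exact zero_ne_one hef'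
  obtain ⟨δ, hδ, hδ0⟩ := exists_skew_ne hF
  refine ⟨lt_of_le_of_ne inf_le_right fun heq => ?_, fun H hMH hHK => ?_⟩
  · have hs : h (e + e') (e + e') = 0 := by rw [norm_add hF hXY he he', hee, hee', add_zero]
    obtain ⟨σ, hσ⟩ := (heq.ge (T_mem hF (e + e') hs hδ)).1
    have h1 : f + (δ * h f (e + e')) • (e + e') ∈ D (σ 0) := by
      rw [← hσ 0]; exact ⟨f, hf, by rw [Matrix.toLin'_apply, T_mulVec]⟩
    have hc : h f (e + e') = 1 := by
      rw [herm_add_right hF, hfr.h12, add_zero, ← herm_conj hF e f, hef, one_pow]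
    rw [hc, mul_one] at h1
    rcases h2 (σ 0) with h' | h' <;> rw [h'] at h1
    · have h4 := hXY _ h1 f' hf'
      simp only [herm_add_left hF, herm_smul_left hF, hfr.h13, hfr.h03, hfr.h23] at h4
      exact hδ0 (by linear_combination h4)
    · have h4 := h_symm hF (hXY e he _ h1)
      simp only [herm_add_left hF, herm_smul_left hF, hee, h_symm hF hfr.h02,
        show h f e = 1 by rw [← herm_conj hF e f, hef, one_pow]] at h4
      exact one_ne_zero (α := F) (by linear_combination h4)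
  by_cases hle : H ≤ Cfsg.Geo.decompositionStabilizer D
  · exact Or.inl (le_antisymm (le_inf hle hHK) hMH)
  right
  obtain ⟨g, hgH, hg⟩ := SetLike.not_le_iff_exists.mp hle
  have hfix : ∀ g ∈ suGL 4 F q, (∀ x ∈ X, (g : Matrix (Fin 4) (Fin 4) F) *ᵥ x ∈ X) →
      (∀ y ∈ Y, (g : Matrix (Fin 4) (Fin 4) F) *ᵥ y ∈ Y) → g ∈ H := fun g hg h0 h1 =>
    hMH ⟨mem_decompStab hF hD 1 fun i => by rcases h2 i with rfl | rfl; exacts [h0, h1], hg⟩
  by_contra hne
  have hunion : ∀ s ∈ root q H, s ∈ X ∨ s ∈ Y := by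
    intro s hs
    obtain ⟨p, hp, p', hp', rfl⟩ := Submodule.mem_sup.mp (hsup.ge (Submodule.mem_top (x := s)))
    rcases eq_or_ne p 0 with rfl | hp0
    · exact Or.inr (by rwa [zero_add])
    rcases eq_or_ne p' 0 with rfl | hp'0
    · exact Or.inl (by rwa [add_zero])
    exact absurd (eq_top_of_mixed hF hHK (hnd 0) (hnd 1) hXY (hd 0) (hd 1) hfix hq hsup hp hp' hp0 hp'0 hs)
      hne
  have hrootD : ∀ i, ∀ x ∈ D i, h x x = 0 → x ∈ root q H := by
    intro i x hx hxx
    rcases h2 i with rfl | rfl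
    · exact root_left hF hHK (hnd 0) (hnd 1) hXY (hd 0) (hd 1) hfix hx hxx
    · exact root_left hF hHK (hnd 1) (hnd 0) (fun y hy x hx => h_symm hF (hXY x hx y hy)) (hd 1) (hd 0)
        (fun g hg h1 h2 => hfix g hg h2 h1) hx hxx
  have himg : ∀ i, ∃ j, ∀ x ∈ D i, (g : Matrix (Fin 4) (Fin 4) F) *ᵥ x ∈ D j := by
    intro i
    obtain ⟨a, ha, c, hc, haa, hcc, hac⟩ := exists_hyp hF (hnd i) (hd i).ge
    have hga := hunion _ (root_map hHK hgH (hrootD i a ha haa))
    have hgc := hunion _ (root_map hHK hgH (hrootD i c hc hcc))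
    have hgac := apply_K (hHK hgH) a c
    rw [hac] at hgac
    obtain ⟨j, hja, hjc⟩ : ∃ j, (g : Matrix (Fin 4) (Fin 4) F) *ᵥ a ∈ D j ∧
        (g : Matrix (Fin 4) (Fin 4) F) *ᵥ c ∈ D j := by
      rcases hga with h1 | h1 <;> rcases hgc with h3 | h3
      · exact ⟨0, h1, h3⟩
      · exact absurd (hgac ▸ hXY _ h1 _ h3) one_ne_zero
      · exact absurd (hgac ▸ h_symm hF (hXY _ h3 _ h1)) one_ne_zero
      · exact ⟨1, h1, h3⟩
    refine ⟨j, fun x hx => ?_⟩
    have hspan : Submodule.span F ({a, c} : Set Vs) = D i := by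
      refine Submodule.eq_of_le_of_finrank_eq (Submodule.span_le.mpr (by
        rintro y (rfl | rfl)
        exacts [ha, hc])) ?_
      rw [hd i]
      have hli : LinearIndependent F ![a, c] := by
        rw [LinearIndependent.pair_iff]
        intro s t hst
        have e1 := congrArg (h · c) hst
        have e2 := congrArg (h · a) hst
        simp only [herm_add_left hF, herm_smul_left hF, hcc, haa, hac, h_zero_left hF,
          show h c a = 1 by rw [← herm_conj hF a c, hac, one_pow]] at e1 e2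
        exact ⟨by linear_combination e1, by linear_combination e2⟩
      have := finrank_span_eq_card hli
      rwa [Fintype.card_fin, show Set.range ![a, c] = {a, c} by simp [Set.pair_comm]] at this
    obtain ⟨r, t, rfl⟩ := Submodule.mem_span_pair.mp (hspan.ge hx)
    rw [mulVec_add, mulVec_smul, mulVec_smul]
    exact (D j).add_mem ((D j).smul_mem r hja) ((D j).smul_mem t hjc)
  choose σ hσ using himg
  have hinj : Function.Injective σ := by
    intro i i' hii
    by_contra hne'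
    obtain ⟨a, ha, haa⟩ := exists_aniso hF (hnd i) fun e => by
      have := hd i; rw [e, finrank_bot] at this; omega
    let L := Matrix.mulVecLin (g : Matrix (Fin 4) (Fin 4) F)
    have hLinj : Function.Injective L := fun x y hxy => by
      have := congrArg (((g⁻¹ : GL (Fin 4) F) : Matrix (Fin 4) (Fin 4) F) *ᵥ ·)
        (show (g : Matrix (Fin 4) (Fin 4) F) *ᵥ x = (g : Matrix (Fin 4) (Fin 4) F) *ᵥ y from hxy)
      simpa [inv_mulVec_mulVec] using this
    have e : (D i').map L = D (σ i) := by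
      refine Submodule.eq_of_le_of_finrank_eq ?_ ?_
      · rintro _ ⟨x, hx, rfl⟩
        rw [hii]; exact hσ i' x hx
      · rw [(Submodule.equivMapOfInjective L hLinj (D i')).finrank_eq.symm, hd, hd]
    obtain ⟨b, hb, hbe⟩ := e.ge (hσ i a ha)
    have hba : b = a := hLinj hbe
    exact haa (hD.orthogonal i i' hne' a ha a (hba ▸ hb))
  exact hg (mem_decompStab hF hD (Equiv.ofBijective σ ⟨hinj, (Finite.injective_iff_surjective).mp hinj⟩) hσ)

end Cfsg.Agent.Lib.SUFour91
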