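import Cfsg.Agent.Lib.UnitaryMax.Pair
import Cfsg.Agent.Lib.SUFour91.Frame

/-!
The stabiliser of two complementary totally singular planes is maximal in the four-dimensional special unitary
group over a field with at least sixteen elements.
-/

set_option autoImplicit false
set_option linter.unusedSectionVars false

namespace Cfsg.Agent.Lib.SUFour91

open Matrix Cfsg.Agent.Lib Cfsg.Agent.Lib.Forms Cfsg.Agent.Lib.FormMax Cfsg.Agent.Lib.UnitaryMax

variable {F : Type*} [Field F] [Fintype F] {q : ℕ}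

local notation "Vs" => (Fin 4 → F)
local notation "h" => Cfsg.hermForm 4 F q
local notation:1024 "↟" g:1024 => (Units.val g : Matrix (Fin 4) (Fin 4) F)

variable (hF : Fintype.card F = q ^ 2)
include hF

/-- A fixed element whose square is not one. -/
theorem exists_fixed_sq_ne (hq : 4 ≤ q) : ∃ d : F, d ^ q = d ∧ d ≠ 0 ∧ d ^ 2 ≠ 1 := by
  obtain ⟨g, hg⟩ := IsCyclic.exists_generator (α := Fˣ)
  refine ⟨(g : F) * (g : F) ^ q, by rw [mul_pow, pow_q_pow_q hF, mul_comm],
    mul_ne_zero g.ne_zero (pow_ne_zero _ g.ne_zero), fun e => ?_⟩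
  have h1 : g ^ (2 * (q + 1)) = 1 := Units.ext (by
    rw [Units.val_pow_eq_pow_val, Units.val_one, ← e]; ring)
  have hord : orderOf g = Fintype.card F - 1 := by
    classical
    rw [orderOf_eq_card_of_forall_mem_zpowers hg, Nat.card_eq_fintype_card, Fintype.card_units]
  have h3 := Nat.le_of_dvd (by omega) (orderOf_dvd_of_pow_eq_one h1)
  rw [hord, hF, Nat.sub_le_iff_le_add] at h3
  nlinarith

/-- A totally singular subspace has dimension at most two. -/
theorem finrank_ts_le (W : Submodule F Vs) (hW : ∀ x ∈ W, ∀ y ∈ W, h x y = 0) : Module.finrank F W ≤ 2 := by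
  have hg := hermSesq_goodForm (n := 4) hF
  have hle : W ≤ perp (hermSesq hF 4) W := fun x hx => by
    simp only [mem_perp, hermSesq_apply]
    exact fun w hw => hW _ hx _ hw
  have h1 := Submodule.finrank_mono hle
  have h2 : Module.finrank F W + Module.finrank F (perp (hermSesq hF 4) W) = 4 := by
    rw [hg.finrank_add_finrank_perp, Module.finrank_fin_fun]
  omega

/-- A vector outside a totally singular line of independent vectors pairs non-trivially with it. -/
theorem kappa_ne_zero {p r s : Vs} (hli : LinearIndependent F ![p, r, s]) (hpp : h p p = 0) (hrr : h r r = 0)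
    (hss : h s s = 0) (hpr : h p r = 0) (hps : h p s = 0) : h s r ≠ 0 := by
  intro hsr
  have hall : ∀ i j : Fin 3, h (![p, r, s] i) (![p, r, s] j) = 0 := by
    intro i j
    fin_cases i <;> fin_cases j <;> simp [hpp, hrr, hss, hpr, hps, hsr, h_symm hF hpr, h_symm hF hps, h_symm hF hsr]
  have hts : ∀ x ∈ Submodule.span F (Set.range ![p, r, s]), ∀ y ∈ Submodule.span F (Set.range ![p, r, s]),
      h x y = 0 := by
    intro x hx y hy
    induction hx using Submodule.span_induction with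
    | mem x hx =>
      obtain ⟨i, rfl⟩ := hx
      induction hy using Submodule.span_induction with
      | mem y hy => obtain ⟨j, rfl⟩ := hy; exact hall i j
      | zero => exact h_zero_right hF _
      | add a b _ _ ha hb => rw [herm_add_right hF, ha, hb, add_zero]
      | smul c a _ ha => rw [herm_smul_right hF, ha, mul_zero]
    | zero => exact h_zero_left hF _
    | add a b _ _ ha hb => rw [herm_add_left hF, ha, hb, add_zero]
    | smul c a _ ha => rw [herm_smul_left hF, ha, mul_zero]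
  have h1 := finrank_ts_le hF _ hts
  rw [finrank_span_eq_card hli, Fintype.card_fin] at h1
  omega

variable {H : Subgroup (GL (Fin 4) F)} (hH : H ≤ suGL 4 F q)
include hH

/-- The commutator of two elements on totally singular lines through a common point. -/
theorem comm_lines {p r s : Vs} (hpp : h p p = 0) (hrr : h r r = 0) (hss : h s s = 0) (hpr : h p r = 0)
    (hps : h p s = 0) {gA gB : GL (Fin 4) F} (hA : gA ∈ H) (hB : gB ∈ H) {m ρ n μ : F}
    (hμ : μ + μ ^ q = 0) (hρ : ρ + ρ ^ q = 0)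
    (hAx : ∀ x, ↟gA *ᵥ x = x + (m * h x r + ρ * h x p) • p - (m ^ q * h x p) • r)
    (hBx : ∀ x, ↟gB *ᵥ x = x + (n * h x s) • p + (μ * h x s - n ^ q * h x p) • s) :
    ∃ Z ∈ H, ∀ x, ↟Z *ᵥ x = x +
      (((m * h s r) ^ q * n - m * h s r * n ^ q + (m * h s r) ^ q * (m * h s r) * μ) * h x p +
        m * h s r * μ * h x s) • p -
      ((m * h s r * μ) ^ q * h x p) • s := by
  refine ⟨gA * gB * gA⁻¹ * gB⁻¹, mul_mem (mul_mem (mul_mem hA hB) (inv_mem hA)) (inv_mem hB), fun x => ?_⟩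
  obtain ⟨y, rfl⟩ : ∃ y, x = ↟gB *ᵥ (↟gA *ᵥ y) :=
    ⟨↟(gA⁻¹) *ᵥ (↟(gB⁻¹) *ᵥ x), by rw [mulVec_inv_mulVec, mulVec_inv_mulVec]⟩
  have e : ↟(gA * gB * gA⁻¹ * gB⁻¹) *ᵥ (↟gB *ᵥ (↟gA *ᵥ y)) = ↟gA *ᵥ (↟gB *ᵥ y) := by
    simp only [Units.val_mul, ← mulVec_mulVec, inv_mulVec_mulVec]
  rw [e]
  have hsr : h r s = h s r ^ q := (herm_conj hF s r).symm
  simp only [hAx, hBx, herm_add_left hF, h_sub_left hF, herm_smul_left hF, hpp, hrr, hss, hpr, hps,
    h_symm hF hpr, h_symm hF hps, hsr, mul_pow, eq_neg_of_add_eq_zero_right hμ]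
  match_scalars <;> ring

variable {X Y : Submodule F (Fin 4 → F)}
  (hX : ∀ u ∈ X, ∀ v ∈ X, Cfsg.hermForm 4 F q u v = 0) (hY : ∀ u ∈ Y, ∀ v ∈ Y, Cfsg.hermForm 4 F q u v = 0)
  (hsup : X ⊔ Y = ⊤) (hinf : X ⊓ Y = ⊥)
  (hfix : ∀ g ∈ suGL 4 F q, (∀ x ∈ X, (g : Matrix (Fin 4) (Fin 4) F) *ᵥ x ∈ X) →
    (∀ y ∈ Y, (g : Matrix (Fin 4) (Fin 4) F) *ᵥ y ∈ Y) → g ∈ H)
include hX hY hsup hinf hfix

theorem exists_adapted_frame {a b : Vs} (ha : a ∈ X) (hb : b ∈ Y) (ha0 : a ≠ 0) (hb0 : b ≠ 0) (hab : h a b = 0) :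
    ∃ fa ∈ Y, ∃ e ∈ X, IsFrame q a fa e b := by
  have hsup' : Y ⊔ X = ⊤ := by rwa [sup_comm]
  have hinf' : Y ⊓ X = ⊥ := by rwa [inf_comm]
  obtain ⟨fa, hfa, -, hafa⟩ := sep_dual hF hY hX hsup' hinf' (S := (⊥ : Submodule F Vs)) bot_le ha
    (fun h' => ha0 ((Submodule.mem_bot F).mp h'))
  have hbfa : b ∉ Submodule.span F ({fa} : Set Vs) := by
    intro h'
    obtain ⟨c, hc⟩ := Submodule.mem_span_singleton.mp h'
    rw [← hc, herm_smul_right hF, hafa, mul_one] at hab
    refine hb0 ?_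
    rw [← hc, q_inj hF (show c ^ q = 0 ^ q by rw [hab, q_zero hF]), zero_smul]
  obtain ⟨e, he, hefa, hbe⟩ := sep_dual hF hX hY hsup hinf (S := Submodule.span F ({fa} : Set Vs))
    ((Submodule.span_singleton_le_iff_mem _ _).mpr hfa) hb hbfa
  exact ⟨fa, hfa, e, he, hX a ha a ha, hY fa hfa fa hfa, hX e he e he, hY b hb b hb, hafa,
    by rw [← herm_conj hF b e, hbe, one_pow], hX a ha e he, hab,
    hefa fa (Submodule.mem_span_singleton_self _), hY fa hfa b hb⟩

/-- Every torus element of the adapted frame. -/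
theorem exists_torus {a fa e b : Vs} (ha : a ∈ X) (hfa : fa ∈ Y) (he : e ∈ X) (hb : b ∈ Y)
    (hfr : IsFrame q a fa e b) {γ μ : F} (hγ : γ ≠ 0) (hμ : μ ≠ 0) (hd : (γ * μ) ^ q = γ * μ) :
    ∃ g ∈ H, ↟g *ᵥ a = γ • a ∧ ↟g *ᵥ b = (μ ^ q)⁻¹ • b := by
  have hγq : γ ^ q ≠ 0 := pow_ne_zero _ hγ
  have hμq : μ ^ q ≠ 0 := pow_ne_zero _ hμ
  obtain ⟨g, hg, hgv⟩ := exists_diag hF hfr γ (γ ^ q)⁻¹ μ (μ ^ q)⁻¹
    (by rw [inv_pow, pow_q_pow_q hF, mul_inv_cancel₀ hγ]) (by rw [inv_pow, pow_q_pow_q hF, mul_inv_cancel₀ hμ])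
    (by
      rw [mul_pow] at hd
      field_simp
      linear_combination -hd)
  refine ⟨g, hfix g hg (fun v hv => ?_) (fun v hv => ?_), ?_, ?_⟩
  · obtain ⟨x, rfl⟩ := exists_coords hF hfr v
    obtain ⟨-, e1, -, e3⟩ := herm_comb_basis hF hfr x
    have x1 : x 1 = 0 := e1 ▸ hX _ hv a ha
    have x3 : x 3 = 0 := e3 ▸ hX _ hv e he
    rw [hgv]
    simp only [comb, x1, x3, mul_zero, zero_smul, add_zero, Matrix.cons_val]
    exact X.add_mem (X.smul_mem _ ha) (X.smul_mem _ he)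
  · obtain ⟨x, rfl⟩ := exists_coords hF hfr v
    obtain ⟨e0, -, e2, -⟩ := herm_comb_basis hF hfr x
    have x0 : x 0 = 0 := e0 ▸ hY _ hv fa hfa
    have x2 : x 2 = 0 := e2 ▸ hY _ hv b hb
    rw [hgv]
    simp only [comb, x0, x2, mul_zero, zero_smul, add_zero, zero_add, Matrix.cons_val]
    exact Y.add_mem (Y.smul_mem _ hfa) (Y.smul_mem _ hb)
  · have := hgv ![1, 0, 0, 0]
    simpa [comb] using this
  · have := hgv ![0, 0, 0, 1]
    simpa [comb] using this

/-- Diagonal elements on a special line yield a root vector. -/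
theorem root_of_diag (hq : 4 ≤ q) {a b : Vs} (ha : a ∈ X) (hb : b ∈ Y) (ha0 : a ≠ 0) (hb0 : b ≠ 0)
    (hab : h a b = 0)
    (hZ : ∀ c, c + c ^ q = 0 → ∃ ω : F, ∃ hω : ω + ω ^ q = 0,
      T a ω (hX a ha a ha) * T b c (hY b hb b hb) ∈ H) : b ∈ root q H := by
  obtain ⟨fa, hfa, e, he, hfr⟩ := exists_adapted_frame hF hH hX hY hsup hinf hfix ha hb ha0 hb0 hab
  obtain ⟨d, hdq, hd0, hd2⟩ := exists_fixed_sq_ne hF hq
  obtain ⟨g₁, hg₁, hg₁a, hg₁b⟩ := exists_torus hF hH hX hY hsup hinf hfix ha hfa he hb hfr hd0 one_ne_zero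
    (by rw [mul_one, hdq])
  obtain ⟨g₂, hg₂, hg₂a, hg₂b⟩ := exists_torus hF hH hX hY hsup hinf hfix ha hfa he hb hfr hd0
    (inv_ne_zero hd0) (by rw [mul_inv_cancel₀ hd0, one_pow])
  refine ⟨hY b hb b hb, fun c hc => ?_⟩
  set c₀ := c / (1 - d ^ 2) with hc₀
  have hne : 1 - d ^ 2 ≠ 0 := sub_ne_zero.mpr (Ne.symm hd2)
  have hc₀q : c₀ + c₀ ^ q = 0 := by
    rw [hc₀, div_pow, q_sub hF, one_pow, ← pow_mul, mul_comm 2 q, pow_mul, hdq, ← add_div, hc, zero_div]
  obtain ⟨ω, hω, hmem⟩ := hZ c₀ hc₀q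
  set z := T a ω (hX a ha a ha) * T b c₀ (hY b hb b hb) with hz
  have hba : h b a = 0 := h_symm hF hab
  have e' : T b c (hY b hb b hb) * (g₂ * z * g₂⁻¹) = g₁ * z * g₁⁻¹ := by
    rw [hz, show g₂ * (T a ω _ * T b c₀ _) * g₂⁻¹ =
        (g₂ * T a ω (hX a ha a ha) * g₂⁻¹) * (g₂ * T b c₀ (hY b hb b hb) * g₂⁻¹) by group,
      show g₁ * (T a ω _ * T b c₀ _) * g₁⁻¹ =
        (g₁ * T a ω (hX a ha a ha) * g₁⁻¹) * (g₁ * T b c₀ (hY b hb b hb) * g₁⁻¹) by group,
      conj_T (hH hg₁), conj_T (hH hg₁), conj_T (hH hg₂), conj_T (hH hg₂)]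
    refine gl_ext fun x => ?_
    simp only [Units.val_mul, ← mulVec_mulVec, T_mulVec, hg₁a, hg₁b, hg₂a, hg₂b, herm_add_left hF,
      herm_smul_left hF, herm_smul_right hF, hX a ha a ha, hY b hb b hb, hab, hba, one_pow, inv_one, inv_pow,
      hdq, inv_inv]
    have hcc : c = c₀ * (1 - d ^ 2) := by rw [hc₀, div_mul_cancel₀ _ hne]
    rw [hcc]
    match_scalars <;> ring
  have h1 := mul_mem (mul_mem (mul_mem hg₁ hmem) (inv_mem hg₁)) (inv_mem (mul_mem (mul_mem hg₂ hmem) (inv_mem hg₂)))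
  rwa [← e', mul_inv_cancel_right] at h1

variable (hold : ∀ a ∈ X, ∀ b ∈ Y, Cfsg.hermForm 4 F q a b = 0 → PairIn q H a b)
include hold

/-- A pair element on a line through a point of `X` outside the special line gives a root vector. -/
theorem root_of_pure {a r : Vs} (ha : a ∈ X) (hrr : h r r = 0) (har : h a r = 0)
    (hnot : ¬ ∃ a' ∈ X, ∃ b' ∈ Y, a' ≠ 0 ∧ b' ≠ 0 ∧ a' ∈ Submodule.span F ({a, r} : Set Vs) ∧
      b' ∈ Submodule.span F ({a, r} : Set Vs))
    (hli : LinearIndependent F ![a, r]) {gA : GL (Fin 4) F} (hA : gA ∈ H) {m ρ : F} (hm : m ≠ 0)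
    (hρ : ρ + ρ ^ q = 0) (hAx : ∀ x, ↟gA *ᵥ x = x + (m * h x r + ρ * h x a) • a - (m ^ q * h x a) • r) :
    a ∈ root q H := by
  have ha0 : a ≠ 0 := by simpa using hli.ne_zero 0
  obtain ⟨fa, hfa, -, hafa⟩ := sep_dual hF hY hX (by rwa [sup_comm]) (by rwa [inf_comm])
    (S := (⊥ : Submodule F Vs)) bot_le ha (fun h' => ha0 ((Submodule.mem_bot F).mp h'))
  obtain ⟨b, hb, hb0, hab⟩ : ∃ b ∈ Y, b ≠ 0 ∧ h a b = 0 := by
    have hY2 : 2 ≤ Module.finrank F Y := by
      have h1 := Submodule.finrank_sup_add_finrank_inf_eq X Y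
      rw [hsup, hinf, finrank_bot, finrank_top, Module.finrank_fin_fun] at h1
      have := finrank_ts_le hF X hX
      omega
    let φ : Y →ₗ[F] F := (hermSesq hF 4 a).comp Y.subtype
    obtain ⟨⟨b, hb⟩, hbk, hb0⟩ := Submodule.exists_mem_ne_zero_of_ne_bot (show φ.ker ≠ ⊥ from fun e => by
      have h1 := φ.finrank_range_add_finrank_ker
      have h2 : Module.finrank F φ.range ≤ 1 := by simpa using Submodule.finrank_le φ.range
      rw [e, finrank_bot] at h1
      omega)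
    exact ⟨b, hb, fun e => hb0 (Subtype.ext e), h_symm hF (LinearMap.mem_ker.mp hbk)⟩
  have hnb : b ∉ Submodule.span F ({a, r} : Set Vs) := fun hbs =>
    hnot ⟨a, ha, b, hb, ha0, hb0, Submodule.subset_span (by simp), hbs⟩
  have hk : h b r ≠ 0 := by
    refine kappa_ne_zero hF ?_ (hX a ha a ha) hrr (hY b hb b hb) har hab
    have h' := linearIndependent_finSnoc.mpr ⟨hli, show b ∉ Submodule.span F (Set.range ![a, r]) by
      rwa [show Set.range ![a, r] = {a, r} by simp [Set.pair_comm]]⟩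
    rw [show ![a, r, b] = Fin.snoc ![a, r] b by funext i; fin_cases i <;> rfl]
    exact h'
  set k := m * h b r with hkdef
  have hk0 : k ≠ 0 := mul_ne_zero hm hk
  refine ⟨hX a ha a ha, fun c hc => ?_⟩
  obtain ⟨τ, hτ⟩ := exists_trace_one hF
  obtain ⟨gB, hB, hBx⟩ := hold a ha b hb hab (τ * c / k ^ q)
  obtain ⟨Z, hZ, hZx⟩ := comm_lines hF hH (hX a ha a ha) hrr (hY b hb b hb) har hab hA hB
    (n := τ * c / k ^ q) (μ := 0) (by rw [q_zero hF, add_zero]) hρ hAx (fun x => by rw [hBx]; module)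
  convert hZ using 1
  refine gl_ext fun x => ?_
  rw [hZx, T_mulVec, ← hkdef]
  simp only [mul_zero, zero_mul, add_zero, q_zero hF, zero_smul, sub_zero, div_pow, mul_pow, pow_q_pow_q hF,
    eq_neg_of_add_eq_zero_right hc]
  congr 2
  field_simp
  linear_combination (-c) * h x a * hτ

/-- A pair element on a line through a mixed special point gives a root vector. -/
theorem root_of_special (hq : 4 ≤ q) {a b r : Vs} (ha : a ∈ X) (hb : b ∈ Y) (ha0 : a ≠ 0) (hb0 : b ≠ 0)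
    (hab : h a b = 0) (hrr : h r r = 0) (hpr : h (a + b) r = 0)
    (hnot : ¬ ∃ a' ∈ X, ∃ b' ∈ Y, a' ≠ 0 ∧ b' ≠ 0 ∧ a' ∈ Submodule.span F ({a + b, r} : Set Vs) ∧
      b' ∈ Submodule.span F ({a + b, r} : Set Vs))
    (hli : LinearIndependent F ![a + b, r]) {m₀ : F} (hm₀ : m₀ ≠ 0)
    (hfam : ∀ l : F, l ^ q = l → ∃ gA ∈ H, ∃ ρ : F, ρ + ρ ^ q = 0 ∧ ∀ x, ↟gA *ᵥ x =
      x + (l * m₀ * h x r + ρ * h x (a + b)) • (a + b) - ((l * m₀) ^ q * h x (a + b)) • r) :
    b ∈ root q H := by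
  have hpp : h (a + b) (a + b) = 0 := by
    rw [herm_add_left hF, herm_add_right hF, herm_add_right hF, hX a ha a ha, hY b hb b hb, hab,
      h_symm hF hab]
    ring
  have hpa : h (a + b) a = 0 := by rw [herm_add_left hF, hX a ha a ha, h_symm hF hab, add_zero]
  have hna : a ∉ Submodule.span F ({a + b, r} : Set Vs) := fun has =>
    hnot ⟨a, ha, b, hb, ha0, hb0, has, by
      have hp : a + b ∈ Submodule.span F ({a + b, r} : Set Vs) := Submodule.subset_span (by simp)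
      simpa using Submodule.sub_mem _ hp has⟩
  have hk : h a r ≠ 0 := by
    refine kappa_ne_zero hF ?_ hpp hrr (hX a ha a ha) hpr hpa
    have h' := linearIndependent_finSnoc.mpr ⟨hli, show a ∉ Submodule.span F (Set.range ![a + b, r]) by
      rwa [show Set.range ![a + b, r] = {a + b, r} by simp [Set.pair_comm]]⟩
    rw [show ![a + b, r, a] = Fin.snoc ![a + b, r] a by funext i; fin_cases i <;> rfl]
    exact h'
  obtain ⟨d, hdq, hd0, hd2⟩ := exists_fixed_sq_ne hF hq
  obtain ⟨l, hlq, hl0, hl1⟩ : ∃ l : F, l ^ q = l ∧ l ≠ 0 ∧ l * m₀ * h a r ≠ 1 := by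
    by_cases h1 : m₀ * h a r = 1
    · exact ⟨d, hdq, hd0, by rw [mul_assoc, h1, mul_one]; exact fun e => hd2 (by rw [e, one_pow])⟩
    · exact ⟨1, one_pow q, one_ne_zero, by rwa [one_mul]⟩
  obtain ⟨gA, hA, ρ, hρ, hAx⟩ := hfam l hlq
  set m := l * m₀ with hmdef
  set k := m * h a r with hkdef
  have hk0 : k ≠ 0 := mul_ne_zero (mul_ne_zero hl0 hm₀) hk
  have hk1 : 1 - k ^ q ≠ 0 := sub_ne_zero.mpr fun e => hl1 (q_inj hF (by rw [one_pow]; exact e.symm))
  set k' := k * (1 - k ^ q) with hk'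
  have hk'0 : k' ≠ 0 := mul_ne_zero hk0 hk1
  have hk'q : k' ^ q = k ^ q * (1 - k) := by rw [hk', mul_pow, q_sub hF, one_pow, pow_q_pow_q hF]
  obtain ⟨τ, hτ⟩ := exists_trace_one hF
  refine root_of_diag hF hH hX hY hsup hinf hfix hq ha hb ha0 hb0 hab fun c hc => ?_
  set e := τ * c / k' with he
  obtain ⟨gB, hB, hBx⟩ := hold a ha b hb hab e
  obtain ⟨Z, hZ, hZx⟩ := comm_lines hF hH hpp hrr (hX a ha a ha) hpr hpa hA hB
    (n := -(e ^ q)) (μ := e ^ q - e) (by rw [q_sub hF, pow_q_pow_q hF]; ring) hρ hAx (fun x => by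
      rw [hBx, herm_add_right hF, q_neg hF, pow_q_pow_q hF]
      match_scalars <;> ring)
  set w := k * (e ^ q - e) with hw
  obtain ⟨gE, hE, hEx⟩ := hold a ha b hb hab (-(c - w ^ q))
  have hcq : c ^ q = -c := eq_neg_of_add_eq_zero_right hc
  have hδ : k ^ q * -(e ^ q) - k * (-(e ^ q)) ^ q + k ^ q * k * (e ^ q - e) = c := by
    have h1 : k' * e = τ * c := by rw [he, mul_div_cancel₀ _ hk'0]
    have h2 : k' ^ q * e ^ q = τ ^ q * (-c) := by rw [← mul_pow, h1, mul_pow, hcq]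
    rw [hk'q] at h2
    rw [hk'] at h1
    rw [q_neg hF, pow_q_pow_q hF]
    linear_combination h1 - h2 + c * hτ
  have hZ' : ∀ x, ↟Z *ᵥ x = x + (c * h x (a + b) + w * h x a) • (a + b) - (w ^ q * h x (a + b)) • a :=
    fun x => by rw [hZx, ← hkdef, hδ]
  refine ⟨c + w - w ^ q, by rw [q_sub hF, q_add hF, pow_q_pow_q hF]; linear_combination hc, ?_⟩
  convert mul_mem hZ hE using 1
  refine gl_ext fun x => ?_
  simp only [Units.val_mul, ← mulVec_mulVec, T_mulVec, hEx, hZ', herm_add_left hF,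
    herm_add_right hF, h_sub_left hF, herm_smul_left hF, hX a ha a ha, hY b hb b hb, hab, h_symm hF hab,
    q_neg hF, q_sub hF, pow_q_pow_q hF, hcq]
  match_scalars <;> ring

/-- A pair element on a line that is not special gives a root vector in `X` or in `Y`. -/
theorem root_of_line (hq : 4 ≤ q) {u v : Vs} (hP : PairIn q H u v) (huu : h u u = 0) (hvv : h v v = 0)
    (huv : h u v = 0) (hli : LinearIndependent F ![u, v])
    (hnot : ¬ ∃ a' ∈ X, ∃ b' ∈ Y, a' ≠ 0 ∧ b' ≠ 0 ∧ a' ∈ Submodule.span F ({u, v} : Set Vs) ∧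
      b' ∈ Submodule.span F ({u, v} : Set Vs)) :
    (∃ b ∈ Y, b ≠ 0 ∧ b ∈ root q H) ∨ ∃ a ∈ X, a ≠ 0 ∧ a ∈ root q H := by
  obtain ⟨u₀, hu₀, u₁, hu₁, hu⟩ := Submodule.mem_sup.mp (hsup.ge (Submodule.mem_top (x := u)))
  obtain ⟨v₀, hv₀, v₁, hv₁, hv⟩ := Submodule.mem_sup.mp (hsup.ge (Submodule.mem_top (x := v)))
  -- a point of the line with orthogonal components
  obtain ⟨α, β, hne, hS⟩ : ∃ α β : F, (α ≠ 0 ∨ β ≠ 0) ∧ h (α • u₀ + β • v₀) (α • u₁ + β • v₁) = 0 := by
    by_cases h00 : h u₀ u₁ = 0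
    · exact ⟨1, 0, Or.inl one_ne_zero, by simpa using h00⟩
    · have euu := huu
      have evv := hvv
      have euv := huv
      rw [← hu] at euu euv
      rw [← hv] at evv euv
      simp only [herm_add_left hF, herm_add_right hF, hX _ hu₀ _ hu₀, hY _ hu₁ _ hu₁, hX _ hv₀ _ hv₀,
        hY _ hv₁ _ hv₁, hX _ hu₀ _ hv₀, hY _ hu₁ _ hv₁, zero_add, add_zero] at euu evv euv
      set t := h u₀ u₁ with ht
      set c := h v₀ u₁ / t with hc
      have htq : t ^ q = -t := by rw [ht, herm_conj hF]; linear_combination euu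
      have hvu : h u₀ v₁ = -(c * t) ^ q := by
        rw [hc, div_mul_cancel₀ _ h00, herm_conj hF]; linear_combination euv
      obtain ⟨l, hl⟩ := exists_norm_eq (qPowHom_ne_id hF) (qPowHom_qPowHom hF)
        (c := -(h v₀ v₁ - c * c ^ q * t) / t) (by
          have hvq : h v₀ v₁ ^ q = -(h v₀ v₁) := by rw [herm_conj hF]; linear_combination evv
          rw [qPowHom_apply, div_pow, q_neg hF, q_sub hF, mul_pow, mul_pow, pow_q_pow_q hF, hvq, htq]
          field_simp
          ring)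
      rw [qPowHom_apply] at hl
      refine ⟨l - c, 1, Or.inr one_ne_zero, ?_⟩
      simp only [herm_add_left hF, herm_add_right hF, herm_smul_left hF, herm_smul_right hF, one_pow, one_mul,
        mul_one, ← ht, hvu, q_sub hF]
      rw [show h v₀ u₁ = c * t by rw [hc, div_mul_cancel₀ _ h00], mul_pow, htq]
      have := congrArg (· * t) hl
      simp only [div_mul_cancel₀ _ h00] at this
      linear_combination this
  set p₀ := α • u₀ + β • v₀ with hp₀
  set p₁ := α • u₁ + β • v₁ with hp₁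
  have hp₀X : p₀ ∈ X := X.add_mem (X.smul_mem _ hu₀) (X.smul_mem _ hv₀)
  have hp₁Y : p₁ ∈ Y := Y.add_mem (Y.smul_mem _ hu₁) (Y.smul_mem _ hv₁)
  have hp : p₀ + p₁ = α • u + β • v := by rw [hp₀, hp₁, ← hu, ← hv]; module
  obtain ⟨r, up, ur, vp, vr, hu', hv', hlr⟩ : ∃ (r : Vs) (up ur vp vr : F), u = up • (p₀ + p₁) + ur • r ∧
      v = vp • (p₀ + p₁) + vr • r ∧ (r = u ∨ r = v) := by
    by_cases hβ : β = 0
    · have hα : α ≠ 0 := hne.resolve_right (fun h' => h' hβ)
      exact ⟨v, α⁻¹, 0, 0, 1, by simp [hp, hβ, smul_smul, inv_mul_cancel₀ hα],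
        by rw [zero_smul, one_smul, zero_add], Or.inr rfl⟩
    · refine ⟨u, 0, 1, β⁻¹, -(β⁻¹ * α), by rw [zero_smul, one_smul, zero_add], ?_, Or.inl rfl⟩
      rw [hp, smul_add, smul_smul, smul_smul, inv_mul_cancel₀ hβ, one_smul]
      module
  set p := p₀ + p₁ with hpdef
  have hrr : h r r = 0 := by rcases hlr with e | e <;> rw [e] <;> assumption
  have hpp : h p p = 0 := by
    rw [hp]; simp only [herm_add_left hF, herm_add_right hF, herm_smul_left hF, herm_smul_right hF, huu, hvv,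
      huv, h_symm hF huv, mul_zero, add_zero]
  have hpr : h p r = 0 := by
    rcases hlr with e | e <;> rw [e, hp] <;>
      simp only [herm_add_left hF, herm_smul_left hF, huu, hvv, huv, h_symm hF huv, mul_zero, add_zero]
  have hspan : Submodule.span F ({p, r} : Set Vs) ≤ Submodule.span F ({u, v} : Set Vs) := by
    rw [Submodule.span_le]
    rintro z (rfl | rfl)
    · rw [hp]; exact Submodule.mem_span_pair.mpr ⟨α, β, rfl⟩
    · rcases hlr with e | e <;> rw [e] <;> exact Submodule.subset_span (by simp)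
  have hspan' : Submodule.span F ({u, v} : Set Vs) ≤ Submodule.span F ({p, r} : Set Vs) := by
    rw [Submodule.span_le]
    rintro z (rfl | rfl)
    · exact Submodule.mem_span_pair.mpr ⟨up, ur, hu'.symm⟩
    · exact Submodule.mem_span_pair.mpr ⟨vp, vr, hv'.symm⟩
  have hli' : LinearIndependent F ![p, r] := by
    rw [linearIndependent_iff_card_eq_finrank_span, Set.finrank,
      show Set.range ![p, r] = {p, r} by simp [Set.pair_comm], le_antisymm hspan hspan',
      show ({u, v} : Set Vs) = Set.range ![u, v] by simp [Set.pair_comm], finrank_span_eq_card hli]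
  have hdet : up * vr - ur * vp ≠ 0 := by
    intro hd
    have h1 := LinearIndependent.pair_iff.mp hli vr (-ur) (by
      rw [hu', hv']
      have : vr * up + -ur * vp = 0 := by linear_combination hd
      calc vr • (up • p + ur • r) + -ur • (vp • p + vr • r) = (vr * up + -ur * vp) • p := by module
        _ = 0 := by rw [this, zero_smul])
    have h2 := LinearIndependent.pair_iff.mp hli vp (-up) (by
      rw [hu', hv']
      have : vp * ur + -up * vr = 0 := by linear_combination -hd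
      calc vp • (up • p + ur • r) + -up • (vp • p + vr • r) = (vp * ur + -up * vr) • r := by module
        _ = 0 := by rw [this, zero_smul])
    obtain ⟨e1, e2⟩ := h1
    obtain ⟨e3, e4⟩ := h2
    refine hli.ne_zero 0 ?_
    show u = 0
    rw [hu', neg_eq_zero.mp e4, neg_eq_zero.mp e2, zero_smul, zero_smul, add_zero]
  -- an element on the line without `r ⊗ r` term
  obtain ⟨c, hcr, hm⟩ : ∃ c : F, c * (ur * vr ^ q) = (c * (ur * vr ^ q)) ^ q ∧
      c * (up * vr ^ q) - c ^ q * (vp * ur ^ q) ≠ 0 := by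
    by_cases h0 : ur * vr ^ q = 0
    · obtain ⟨a, ha⟩ := exists_moved hF
      rcases mul_eq_zero.mp h0 with e | e
      · refine ⟨1, by rw [h0, mul_zero, q_zero hF], ?_⟩
        rw [e, q_zero hF, mul_zero, mul_zero, sub_zero, one_mul]
        refine mul_ne_zero (fun e' => hdet (by rw [e', e]; ring)) (pow_ne_zero _ fun e' => hdet (by rw [e', e]; ring))
      · have evr : vr = 0 := eq_zero_of_pow_eq_zero e
        refine ⟨1, by rw [h0, mul_zero, q_zero hF], ?_⟩
        rw [e, mul_zero, mul_zero, zero_sub, one_pow, one_mul, neg_ne_zero]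
        refine mul_ne_zero (fun e' => hdet (by rw [e', evr]; ring)) (pow_ne_zero _ fun e' => hdet (by rw [e', evr]; ring))
    · have hur : ur ≠ 0 := left_ne_zero_of_mul h0
      have hvr : vr ≠ 0 := fun e => h0 (by rw [e, q_zero hF, mul_zero])
      refine ⟨(ur * vr ^ q)⁻¹, by rw [inv_mul_cancel₀ h0, one_pow], fun e => hdet ?_⟩
      rw [inv_pow, mul_pow, pow_q_pow_q hF] at e
      field_simp at e
      linear_combination e
  clear_value p
  obtain ⟨gA, hA, hAx⟩ := hP c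
  set m := c * (up * vr ^ q) - c ^ q * (vp * ur ^ q) with hmdef
  set ρ := c * (up * vp ^ q) - c ^ q * (vp * up ^ q) with hρdef
  have hρ : ρ + ρ ^ q = 0 := by
    rw [hρdef, q_sub hF, mul_pow, mul_pow, mul_pow, mul_pow, pow_q_pow_q hF, pow_q_pow_q hF, pow_q_pow_q hF]
    ring
  have hAx' : ∀ x, ↟gA *ᵥ x = x + (m * h x r + ρ * h x p) • p - (m ^ q * h x p) • r := fun x => by
    rw [hAx, hu', hv']
    simp only [herm_add_right hF, herm_smul_right hF]
    have hmq : m ^ q = c ^ q * (up ^ q * vr) - c * (vp ^ q * ur) := by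
      rw [hmdef, q_sub hF]; simp only [mul_pow, pow_q_pow_q hF]
    rw [hmq, hmdef, hρdef]
    simp only [mul_pow, pow_q_pow_q hF] at hcr
    match_scalars
    · ring
    · ring
    · linear_combination (h x r) * hcr
  have hnot' : ¬ ∃ a' ∈ X, ∃ b' ∈ Y, a' ≠ 0 ∧ b' ≠ 0 ∧ a' ∈ Submodule.span F ({p, r} : Set Vs) ∧
      b' ∈ Submodule.span F ({p, r} : Set Vs) := fun ⟨a', ha', b', hb', h1, h2, h3, h4⟩ =>
    hnot ⟨a', ha', b', hb', h1, h2, hspan h3, hspan h4⟩
  rcases eq_or_ne p₁ 0 with e1 | hp₁0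
  · rw [show p = p₀ by rw [hpdef, e1, add_zero]] at hpr hnot' hli' hAx'
    exact Or.inr ⟨p₀, hp₀X, by simpa using hli'.ne_zero 0,
      root_of_pure hF hH hX hY hsup hinf hfix hold hp₀X hrr hpr hnot' hli' hA hm hρ hAx'⟩
  rcases eq_or_ne p₀ 0 with e0 | hp₀0
  · rw [show p = p₁ by rw [hpdef, e0, zero_add]] at hpr hnot' hli' hAx'
    exact Or.inl ⟨p₁, hp₁Y, hp₁0, root_of_pure hF hH hY hX (by rwa [sup_comm]) (by rwa [inf_comm])
      (fun g hg h1 h2 => hfix g hg h2 h1) (fun a ha b hb hab => (hold b hb a ha (h_symm hF hab)).symm hF)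
      hp₁Y hrr hpr (fun ⟨a', ha', b', hb', h1, h2, h3, h4⟩ => hnot' ⟨b', hb', a', ha', h2, h1, h4, h3⟩)
      hli' hA hm hρ hAx'⟩
  have hfam : ∀ l : F, l ^ q = l → ∃ gA ∈ H, ∃ ρ : F, ρ + ρ ^ q = 0 ∧ ∀ x, ↟gA *ᵥ x =
      x + (l * m * h x r + ρ * h x p) • p - ((l * m) ^ q * h x p) • r := by
    intro l hlq
    obtain ⟨gl, hgl, hglx⟩ := hP (l * c)
    refine ⟨gl, hgl, l * ρ, by rw [mul_pow, hlq, ← mul_add, hρ, mul_zero], fun x => ?_⟩
    rw [hglx, hu', hv']
    simp only [herm_add_right hF, herm_smul_right hF]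
    have hmq : m ^ q = c ^ q * (up ^ q * vr) - c * (vp ^ q * ur) := by
      rw [hmdef, q_sub hF]; simp only [mul_pow, pow_q_pow_q hF]
    rw [mul_pow l m, hlq, hmq, hmdef, hρdef, mul_pow l c, hlq]
    simp only [mul_pow, pow_q_pow_q hF] at hcr
    match_scalars
    · ring
    · ring
    · linear_combination (l * h x r) * hcr
  rw [hpdef] at hpr hnot' hli' hfam
  exact Or.inl ⟨p₁, hp₁Y, hp₁0, root_of_special hF hH hX hY hsup hinf hfix hold hq hp₀X hp₁Y hp₀0 hp₁0 hS hrr hpr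
    hnot' hli' hm hfam⟩

omit hH hX hY hsup hinf hfix hold

/-- The stabiliser of a pair of complementary totally singular planes is maximal. -/
theorem isMaximalIn_tsPair (hq : 4 ≤ q) (D : Fin 2 → Submodule F Vs) (hD : Cfsg.Geo.IsMDecomposition 2 D)
    (hts : ∀ i, Cfsg.Geo.IsTotallySingularFor (Cfsg.hermForm 4 F q) (D i)) :
    Cfsg.Geo.IsMaximalIn (suGL 4 F q) (Cfsg.Geo.decompositionStabilizer D ⊓ suGL 4 F q) := by
  classical
  set X := D 0 with hXdef
  set Y := D 1 with hYdef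
  have hX : ∀ u ∈ X, ∀ v ∈ X, h u v = 0 := fun u hu v hv => hts 0 u hu v hv
  have hY : ∀ u ∈ Y, ∀ v ∈ Y, h u v = 0 := fun u hu v hv => hts 1 u hu v hv
  have hinf : X ⊓ Y = ⊥ := disjoint_iff.mp (hD.indep.pairwiseDisjoint (by simp : (0 : Fin 2) ≠ 1))
  have hsup : X ⊔ Y = ⊤ := by
    rw [eq_top_iff, ← hD.iSup_eq_top]
    refine iSup_le fun i => ?_
    fin_cases i
    · exact le_sup_left
    · exact le_sup_right
  have hinf' : Y ⊓ X = ⊥ := by rwa [inf_comm]
  have hsup' : Y ⊔ X = ⊤ := by rwa [sup_comm]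
  have hd : ∀ i, Module.finrank F (D i) = 2 := hD.finrank_eq
  have h2 : ∀ i : Fin 2, i = 0 ∨ i = 1 := by decide
  obtain ⟨δ, hδ, hδ0⟩ := exists_skew_ne hF
  have hmap : ∀ (g : GL (Fin 4) F) (i j : Fin 2), (∀ x ∈ D i, ↟g *ᵥ x ∈ D j) →
      (D i).map (Matrix.toLin' ↟g) = D j := by
    intro g i j h'
    have hinj : Function.Injective (Matrix.toLin' ↟g) := by
      intro x y hxy
      have h3 := congrArg (↟(g⁻¹) *ᵥ ·) hxy
      simpa [Matrix.toLin'_apply, inv_mulVec_mulVec] using h3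
    refine Submodule.eq_of_le_of_finrank_eq ?_ ?_
    · rintro _ ⟨x, hx, rfl⟩
      rw [Matrix.toLin'_apply]; exact h' x hx
    · rw [← (Submodule.equivMapOfInjective _ hinj (D i)).finrank_eq, hd, hd]
  refine ⟨lt_of_le_of_ne inf_le_right fun e => ?_, fun H hMH hHK => ?_⟩
  · obtain ⟨x, hx, hx0⟩ := Submodule.exists_mem_ne_zero_of_ne_bot (show X ≠ ⊥ from fun e' => by
      have := hd 0; rw [← hXdef, e', finrank_bot] at this; omega)
    obtain ⟨p, hp, -, hxp⟩ := sep_dual hF hY hX hsup' hinf' (S := (⊥ : Submodule F Vs)) bot_le hx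
      (fun h' => hx0 ((Submodule.mem_bot F).mp h'))
    obtain ⟨σ, hσ⟩ := (e.ge (T_mem hF x (hX x hx x hx) hδ)).1
    have h1 : p + δ • x ∈ D (σ 1) := by
      rw [← hσ 1]
      refine ⟨p, hp, ?_⟩
      rw [Matrix.toLin'_apply, T_mulVec, ← herm_conj hF x p, hxp, one_pow, mul_one]
    rcases h2 (σ 1) with h' | h' <;> rw [h'] at h1
    · have h4 : p ∈ X ⊓ Y := ⟨(Submodule.add_mem_iff_left X (X.smul_mem δ hx)).mp h1, hp⟩
      rw [hinf, Submodule.mem_bot] at h4
      rw [h4, h_zero_right hF] at hxp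
      exact zero_ne_one hxp
    · have h4 : δ • x ∈ X ⊓ Y := ⟨X.smul_mem δ hx, (Submodule.add_mem_iff_right Y hp).mp h1⟩
      rw [hinf, Submodule.mem_bot] at h4
      exact smul_ne_zero hδ0 hx0 h4
  by_cases hle : H ≤ Cfsg.Geo.decompositionStabilizer D
  · exact Or.inl (le_antisymm (le_inf hle hHK) hMH)
  right
  obtain ⟨g, hgH, hg⟩ := SetLike.not_le_iff_exists.mp hle
  have hfix : ∀ g ∈ suGL 4 F q, (∀ x ∈ X, ↟g *ᵥ x ∈ X) → (∀ y ∈ Y, ↟g *ᵥ y ∈ Y) → g ∈ H := fun g hg h0 h1 =>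
    hMH ⟨⟨1, fun i => hmap g i _ (by rcases h2 i with rfl | rfl; exacts [h0, h1])⟩, hg⟩
  have hold : ∀ a ∈ X, ∀ b ∈ Y, h a b = 0 → PairIn q H a b := by
    intro a ha b hb hab c
    have hv : h (c • a) (c • a) = 0 := hX _ (X.smul_mem c ha) _ (X.smul_mem c ha)
    have hbv : h b (c • a) = 0 := by rw [herm_smul_right hF, h_symm hF hab, mul_zero]
    set g₀ := glMk (eichlerMatrix q (c • a) b 0) (det_eichlerMatrix hF 0 hv hbv) with hg₀
    have hx : ∀ x : Vs, ↟g₀ *ᵥ x = x + (c * h x b) • a - (c ^ q * h x a) • b := fun x => by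
      rw [hg₀, glMk_val, eichlerMatrix_mulVec, herm_smul_right hF]
      module
    refine ⟨g₀, hfix g₀ (glMk_mem _ _
      (eichlerMatrix_preserves hF hv hbv (by rw [q_zero hF, hY b hb b hb]; ring))) (fun x hxi => ?_)
      (fun x hxi => ?_), hx⟩
    · rw [hx, hX x hxi a ha, mul_zero, zero_smul, sub_zero]; exact X.add_mem hxi (X.smul_mem _ ha)
    · rw [hx, hY x hxi b hb, mul_zero, zero_smul, add_zero]; exact Y.sub_mem hxi (Y.smul_mem _ hb)
  have hold' : ∀ a ∈ Y, ∀ b ∈ X, h a b = 0 → PairIn q H a b := fun a ha b hb hab =>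
    (hold b hb a ha (h_symm hF hab)).symm hF
  obtain ⟨hXr, hYr⟩ : (∀ x ∈ X, x ∈ root q H) ∧ ∀ y ∈ Y, y ∈ root q H := by
    suffices hroot : (∃ b ∈ Y, b ≠ 0 ∧ b ∈ root q H) ∨ ∃ a ∈ X, a ≠ 0 ∧ a ∈ root q H by
      obtain ⟨s, hs, hsX, hsY⟩ := exists_swap hF hX hY hsup hinf
      have hsH : s ∈ H := hMH ⟨⟨Equiv.swap 0 1, fun i => hmap s i _ fun x hx => by
        fin_cases i
        · simpa using hsX x hx
        · simpa using hsY x hx⟩, hs⟩
      have hsne : ∀ b : Vs, b ≠ 0 → ↟s *ᵥ b ≠ 0 := fun b hb h' => hb (by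
        rw [← inv_mulVec_mulVec s b, h', mulVec_zero])
      rcases hroot with ⟨b, hb, hb0, hbr⟩ | ⟨b, hb, hb0, hbr⟩
      · have hy := fun y (hy : y ∈ Y) => root_all hF hX hY hsup hinf hHK hold hb hb0 hbr hy
        exact ⟨fun x hx => root_all hF hY hX hsup' hinf' hHK hold' (hsY b hb) (hsne b hb0)
          (root_map hHK hsH hbr) hx, hy⟩
      · have hx := fun x (hx : x ∈ X) => root_all hF hY hX hsup' hinf' hHK hold' hb hb0 hbr hx
        exact ⟨hx, fun y hy => root_all hF hX hY hsup hinf hHK hold (hsX b hb) (hsne b hb0)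
          (root_map hHK hsH hbr) hy⟩
    by_contra hroot
    have hinj : ∀ (g : GL (Fin 4) F) (a b : Vs), ↟g *ᵥ a = ↟g *ᵥ b → a = b := fun g a b h' => by
      rw [← inv_mulVec_mulVec g a, h', inv_mulVec_mulVec]
    -- images of special lines are special
    have hgood : ∀ g' ∈ H, ∀ a ∈ X, ∀ b ∈ Y, a ≠ 0 → b ≠ 0 → h a b = 0 →
        ∃ a' ∈ X, ∃ b' ∈ Y, a' ≠ 0 ∧ b' ≠ 0 ∧ a' ∈ Submodule.span F ({↟g' *ᵥ a, ↟g' *ᵥ b} : Set Vs) ∧
          b' ∈ Submodule.span F ({↟g' *ᵥ a, ↟g' *ᵥ b} : Set Vs) := by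
      intro g' hg' a ha b hb ha0 hb0 hab
      by_contra hnot
      refine hroot (root_of_line hF hHK hX hY hsup hinf hfix hold hq ((hold a ha b hb hab).map hF hHK hg')
        (by rw [apply_K (hHK hg'), hX a ha a ha]) (by rw [apply_K (hHK hg'), hY b hb b hb])
        (by rw [apply_K (hHK hg'), hab]) ?_ hnot)
      rw [LinearIndependent.pair_iff]
      intro s t hst
      rw [← mulVec_smul, ← mulVec_smul, ← mulVec_add] at hst
      have h0 : s • a + t • b = 0 := hinj g' _ _ (by rw [hst, mulVec_zero])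
      have h1 : s • a ∈ X ⊓ Y := ⟨X.smul_mem s ha, by
        rw [eq_neg_of_add_eq_zero_left h0]; exact Y.neg_mem (Y.smul_mem t hb)⟩
      rw [hinf, Submodule.mem_bot, smul_eq_zero] at h1
      have hs0 := h1.resolve_right ha0
      rw [hs0, zero_smul, zero_add, smul_eq_zero] at h0
      exact ⟨hs0, h0.resolve_right hb0⟩
    have huniq : ∀ x ∈ X, ∀ y ∈ Y, x + y = 0 → x = 0 ∧ y = 0 := by
      intro x hx y hy e
      have h1 : x ∈ X ⊓ Y := ⟨hx, by rw [eq_neg_of_add_eq_zero_left e]; exact Y.neg_mem hy⟩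
      rw [hinf, Submodule.mem_bot] at h1
      exact ⟨h1, by rwa [h1, zero_add] at e⟩
    -- partners
    have hpart : ∀ (P Q : Submodule F Vs), Module.finrank F Q = 2 → ∀ a ∈ P, ∃ b ∈ Q, b ≠ 0 ∧ h a b = 0 := by
      intro P Q hQ a _
      let φ : Q →ₗ[F] F := (hermSesq hF 4 a).comp Q.subtype
      obtain ⟨⟨b, hb⟩, hbk, hb0⟩ := Submodule.exists_mem_ne_zero_of_ne_bot (show φ.ker ≠ ⊥ from fun e => by
        have h1 := φ.finrank_range_add_finrank_ker
        have h3 : Module.finrank F φ.range ≤ 1 := by simpa using Submodule.finrank_le φ.range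
        rw [e, finrank_bot] at h1
        omega)
      exact ⟨b, hb, fun e => hb0 (Subtype.ext e), h_symm hF (LinearMap.mem_ker.mp hbk)⟩
    -- every image of a vector in one member has orthogonal components
    have hS : ∀ a, (a ∈ X ∨ a ∈ Y) → ∀ w₀ ∈ X, ∀ w₁ ∈ Y, ↟g *ᵥ a = w₀ + w₁ → h w₀ w₁ = 0 := by
      intro a haXY w₀ hw₀ w₁ hw₁ hw
      rcases eq_or_ne a 0 with rfl | ha0
      · rw [mulVec_zero] at hw
        rw [(huniq w₀ hw₀ w₁ hw₁ hw.symm).1, h_zero_left hF]
      obtain ⟨x, hx, y, hy, hx0, hy0, hxy, hmem⟩ : ∃ x ∈ X, ∃ y ∈ Y, x ≠ 0 ∧ y ≠ 0 ∧ h x y = 0 ∧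
          a ∈ Submodule.span F ({x, y} : Set Vs) := by
        rcases haXY with ha | ha
        · obtain ⟨b, hb, hb0, hab⟩ := hpart X Y (hd 1) a ha
          exact ⟨a, ha, b, hb, ha0, hb0, hab, Submodule.subset_span (by simp)⟩
        · obtain ⟨b, hb, hb0, hab⟩ := hpart Y X (hd 0) a ha
          exact ⟨b, hb, a, ha, hb0, ha0, h_symm hF hab, Submodule.subset_span (by simp)⟩
      obtain ⟨a', ha', b', hb', ha'0, hb'0, h3, h4⟩ := hgood g hgH x hx y hy hx0 hy0 hxy
      have hab' : h a' b' = 0 := by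
        obtain ⟨s, t, rfl⟩ := Submodule.mem_span_pair.mp h3
        obtain ⟨s', t', rfl⟩ := Submodule.mem_span_pair.mp h4
        simp only [herm_add_left hF, herm_add_right hF, herm_smul_left hF, herm_smul_right hF,
          apply_K (hHK hgH), hX x hx x hx, hY y hy y hy, hxy, h_symm hF hxy, mul_zero, add_zero]
      have hsp : Submodule.span F ({a', b'} : Set Vs) = Submodule.span F ({↟g *ᵥ x, ↟g *ᵥ y} : Set Vs) := by
        refine Submodule.eq_of_le_of_finrank_le (Submodule.span_le.mpr (by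
          rintro z (rfl | rfl)
          exacts [h3, h4])) ?_
        have hli : LinearIndependent F ![a', b'] := by
          rw [LinearIndependent.pair_iff]
          intro s t hst
          obtain ⟨e1, e2⟩ := huniq _ (X.smul_mem s ha') _ (Y.smul_mem t hb') hst
          exact ⟨(smul_eq_zero.mp e1).resolve_right ha'0, (smul_eq_zero.mp e2).resolve_right hb'0⟩
        have h5 := finrank_span_eq_card hli
        rw [Fintype.card_fin, show Set.range ![a', b'] = {a', b'} by simp [Set.pair_comm]] at h5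
        rw [h5]
        refine (finrank_span_le_card (R := F) ({↟g *ᵥ x, ↟g *ᵥ y} : Set Vs)).trans ?_
        rw [Set.toFinset_insert, Set.toFinset_singleton]
        exact Finset.card_le_two
      have hga : ↟g *ᵥ a ∈ Submodule.span F ({a', b'} : Set Vs) := by
        rw [hsp]
        obtain ⟨s, t, rfl⟩ := Submodule.mem_span_pair.mp hmem
        rw [mulVec_add, mulVec_smul, mulVec_smul]
        exact Submodule.mem_span_pair.mpr ⟨s, t, rfl⟩
      obtain ⟨s, t, hst⟩ := Submodule.mem_span_pair.mp hga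
      obtain ⟨e1, e2⟩ := huniq _ (X.sub_mem hw₀ (X.smul_mem s ha')) _ (Y.sub_mem hw₁ (Y.smul_mem t hb'))
        (by rw [show w₀ - s • a' + (w₁ - t • b') = w₀ + w₁ - (s • a' + t • b') by abel, hst, hw, sub_self])
      rw [sub_eq_zero.mp e1, sub_eq_zero.mp e2, herm_smul_left hF, herm_smul_right hF, hab', mul_zero, mul_zero]
    -- a vector whose image has two components
    obtain ⟨i, a, ha, haX, haY⟩ : ∃ i, ∃ a ∈ D i, ↟g *ᵥ a ∉ X ∧ ↟g *ᵥ a ∉ Y := by
      by_contra hno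
      push Not at hno
      have hone : ∀ i : Fin 2, ∃ j : Fin 2, ∀ x ∈ D i, ↟g *ᵥ x ∈ D j := by
        intro i
        by_cases hall : ∀ x ∈ D i, ↟g *ᵥ x ∈ X
        · exact ⟨0, hall⟩
        push Not at hall
        obtain ⟨y, hy, hyX⟩ := hall
        refine ⟨1, fun x hx => ?_⟩
        by_cases h1 : ↟g *ᵥ x ∈ X
        · have h3 : ↟g *ᵥ (x + y) ∉ X := by
            rw [mulVec_add]; exact fun h' => hyX ((Submodule.add_mem_iff_right X h1).mp h')
          have h4 := hno i _ ((D i).add_mem hx hy) h3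
          rw [mulVec_add] at h4
          exact (Submodule.add_mem_iff_left Y (hno i y hy hyX)).mp h4
        · exact hno i x hx h1
      choose σ hσ using hone
      refine hg ⟨Equiv.ofBijective σ ⟨fun i j hij => ?_, (Finite.injective_iff_surjective).mp (fun i j hij => ?_)⟩,
        fun i => hmap g i _ (hσ i)⟩
      all_goals
        by_contra hne
        have h3 := hmap g i _ (hσ i)
        rw [hij, ← hmap g j _ (hσ j)] at h3
        have hinj' : Function.Injective (Matrix.toLin' ↟g) := fun a b h' => hinj g a b (by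
          simpa [Matrix.toLin'_apply] using h')
        have h4 := Submodule.map_injective_of_injective hinj' h3
        have h5 := hD.indep.pairwiseDisjoint hne
        rw [Function.onFun, h4, disjoint_self] at h5
        have h6 := hd j
        rw [h5, finrank_bot] at h6
        omega
    have haXY : ∀ z ∈ D i, z ∈ X ∨ z ∈ Y := fun z hz => by
      rcases h2 i with rfl | rfl
      exacts [Or.inl hz, Or.inr hz]
    obtain ⟨w₀, hw₀, w₁, hw₁, hw⟩ := Submodule.mem_sup.mp (hsup.ge (Submodule.mem_top (x := ↟g *ᵥ a)))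
    have hw₀0 : w₀ ≠ 0 := fun e => haY (by rw [← hw, e, zero_add]; exact hw₁)
    have hw₁0 : w₁ ≠ 0 := fun e => haX (by rw [← hw, e, add_zero]; exact hw₀)
    have hw01 : h w₀ w₁ = 0 := hS a (haXY a ha) w₀ hw₀ w₁ hw₁ hw.symm
    -- the whole image is the special line through it
    have hin : ∀ z ∈ D i, ∃ s t : F, ↟g *ᵥ z = s • w₀ + t • w₁ := by
      intro z hz
      obtain ⟨z₀, hz₀, z₁, hz₁, hz'⟩ := Submodule.mem_sup.mp (hsup.ge (Submodule.mem_top (x := ↟g *ᵥ z)))
      have hzS : h z₀ z₁ = 0 := hS z (haXY z hz) z₀ hz₀ z₁ hz₁ hz'.symm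
      have hlin : ∀ l : F, l * h z₀ w₁ + l ^ q * h w₀ z₁ = 0 := fun l => by
        have h1 := hS (a + l • z) (haXY _ ((D i).add_mem ha ((D i).smul_mem l hz))) (w₀ + l • z₀)
          (X.add_mem hw₀ (X.smul_mem l hz₀)) (w₁ + l • z₁) (Y.add_mem hw₁ (Y.smul_mem l hz₁))
          (by rw [mulVec_add, mulVec_smul, ← hw, ← hz']; module)
        simp only [herm_add_left hF, herm_add_right hF, herm_smul_left hF, herm_smul_right hF, hw01, hzS] at h1
        linear_combination h1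
      obtain ⟨μ, hμ⟩ := exists_moved hF
      have e1 := hlin 1
      have e2 := hlin μ
      rw [one_pow] at e1
      have e3 : (μ - μ ^ q) * h z₀ w₁ = 0 := by linear_combination e2 - μ ^ q * e1
      have hzw : h z₀ w₁ = 0 := (mul_eq_zero.mp e3).resolve_left (sub_ne_zero.mpr (Ne.symm hμ))
      have hwz : h w₀ z₁ = 0 := by linear_combination e1 - hzw
      have line : ∀ (P Q : Submodule F Vs), P ⊓ Q = ⊥ → P ⊔ Q = ⊤ → (∀ u ∈ P, ∀ v ∈ P, h u v = 0) →
          (∀ u ∈ Q, ∀ v ∈ Q, h u v = 0) → ∀ x ∈ P, ∀ x' ∈ P, ∀ y ∈ Q, x ≠ 0 → y ≠ 0 → h x y = 0 → h x' y = 0 →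
          ∃ s : F, x' = s • x := by
        intro P Q hPQ hPQ' hP hQ x hx x' hx' y hy hx0 hy0 hxy hx'y
        by_contra hno
        push Not at hno
        have hxs : x' ∉ Submodule.span F ({x} : Set Vs) := fun h' => by
          obtain ⟨s, hs⟩ := Submodule.mem_span_singleton.mp h'; exact hno s hs.symm
        have hli : LinearIndependent F ![x, x', y] := by
          rw [Fintype.linearIndependent_iff]
          intro c hc
          simp only [Fin.sum_univ_three, Matrix.cons_val] at hc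
          have h1 : c 0 • x + c 1 • x' ∈ P ⊓ Q := ⟨P.add_mem (P.smul_mem _ hx) (P.smul_mem _ hx'), by
            rw [eq_neg_of_add_eq_zero_left hc]; exact Q.neg_mem (Q.smul_mem _ hy)⟩
          rw [hPQ, Submodule.mem_bot] at h1
          have hc2 : c 2 = 0 := by
            rw [h1, zero_add] at hc
            exact (smul_eq_zero.mp hc).resolve_right hy0
          have hc1 : c 1 = 0 := by
            by_contra h'
            exact hxs (Submodule.mem_span_singleton.mpr ⟨-(c 0) / c 1, by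
              rw [← smul_right_inj h', smul_smul, mul_div_cancel₀ _ h', neg_smul,
                neg_eq_of_add_eq_zero_right h1]⟩)
          have hc0 : c 0 = 0 := by
            rw [hc1, zero_smul, add_zero] at h1
            exact (smul_eq_zero.mp h1).resolve_right hx0
          intro j
          fin_cases j <;> assumption
        have := kappa_ne_zero hF hli (hP x hx x hx) (hP x' hx' x' hx') (hQ y hy y hy) (hP x hx x' hx') hxy
        exact this (h_symm hF hx'y)
      obtain ⟨s, hs⟩ := line X Y hinf hsup hX hY w₀ hw₀ z₀ hz₀ w₁ hw₁ hw₀0 hw₁0 hw01 hzw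
      obtain ⟨t, ht⟩ := line Y X hinf' hsup' hY hX w₁ hw₁ z₁ hz₁ w₀ hw₀ hw₁0 hw₀0 (h_symm hF hw01)
        (h_symm hF hwz)
      exact ⟨s, t, by rw [← hz', hs, ht]⟩
    obtain ⟨b, hb, hbl⟩ : ∃ b ∈ D i, b ∉ Submodule.span F ({a} : Set Vs) := by
      by_contra hno
      push Not at hno
      have h3 := Submodule.finrank_mono (show D i ≤ Submodule.span F ({a} : Set Vs) from hno)
      rw [hd] at h3
      have h4 : Module.finrank F (Submodule.span F ({a} : Set Vs)) ≤ 1 := by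
        refine (finrank_span_le_card (R := F) ({a} : Set Vs)).trans ?_; simp
      omega
    obtain ⟨s, t, hst⟩ := hin b hb
    have hne : s ≠ t := fun e => hbl (Submodule.mem_span_singleton.mpr ⟨s, hinj g _ _ (by
      rw [mulVec_smul, ← hw, hst, ← e, smul_add])⟩)
    have hback : ∀ w, (w = w₀ ∨ w = w₁) → ↟(g⁻¹) *ᵥ w ∈ D i := by
      intro w hw'
      have e0 : (t - s) • w₀ = t • ↟g *ᵥ a - ↟g *ᵥ b := by rw [← hw, hst]; module
      have e1 : (s - t) • w₁ = s • ↟g *ᵥ a - ↟g *ᵥ b := by rw [← hw, hst]; module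
      rcases hw' with rfl | rfl
      · have := congrArg (fun v => (t - s)⁻¹ • ↟(g⁻¹) *ᵥ v) e0
        simp only [mulVec_smul, mulVec_sub, inv_mulVec_mulVec, smul_smul,
          inv_mul_cancel₀ (sub_ne_zero.mpr (Ne.symm hne)), one_smul] at this
        rw [this]; exact (D i).smul_mem _ ((D i).sub_mem ((D i).smul_mem _ ha) hb)
      · have := congrArg (fun v => (s - t)⁻¹ • ↟(g⁻¹) *ᵥ v) e1
        simp only [mulVec_smul, mulVec_sub, inv_mulVec_mulVec, smul_smul,
          inv_mul_cancel₀ (sub_ne_zero.mpr hne), one_smul] at this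
        rw [this]; exact (D i).smul_mem _ ((D i).sub_mem ((D i).smul_mem _ ha) hb)
    obtain ⟨a', ha', b', hb', ha'0, hb'0, h3, h4⟩ := hgood g⁻¹ (H.inv_mem hgH) w₀ hw₀ w₁ hw₁ hw₀0 hw₁0 hw01
    have hsub : Submodule.span F ({↟(g⁻¹) *ᵥ w₀, ↟(g⁻¹) *ᵥ w₁} : Set Vs) ≤ D i := Submodule.span_le.mpr (by
      rintro z (rfl | rfl)
      exacts [hback _ (Or.inl rfl), hback _ (Or.inr rfl)])
    rcases h2 i with rfl | rfl
    · exact hb'0 ((Submodule.mem_bot F).mp (hinf ▸ ⟨hsub h4, hb'⟩))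
    · exact ha'0 ((Submodule.mem_bot F).mp (hinf ▸ ⟨ha', hsub h3⟩))
  refine eq_suGL hF (by omega) (by omega) hHK fun v hv => ?_
  obtain ⟨a, ha, b, hb, rfl⟩ := Submodule.mem_sup.mp (hsup.ge (Submodule.mem_top (x := v)))
  by_cases hab : h a b = 0
  · rcases eq_or_ne a 0 with rfl | ha0
    · rw [zero_add]; exact hYr b hb
    obtain ⟨p, hp, -, hap⟩ := sep_dual hF hY hX hsup' hinf' (S := (⊥ : Submodule F Vs)) bot_le ha
      (fun h' => ha0 ((Submodule.mem_bot F).mp h'))
    set b' := δ ^ q • p with hb'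
    have hb'Y : b' ∈ Y := Y.smul_mem _ hp
    have hab' : h a b' = δ := by rw [hb', herm_smul_right hF, pow_q_pow_q hF, hap, mul_one]
    have hb'a : h b' a = δ ^ q := by rw [← herm_conj hF a b', hab']
    have h1 := root_add hF hHK (hXr a ha) (hYr b' hb'Y) (by rw [hab']; exact hδ0) (by
      rw [herm_add_left hF, herm_add_right hF, herm_add_right hF, hX a ha a ha, hY b' hb'Y b' hb'Y, hab', hb'a]
      linear_combination hδ)
    have h3 := root_add hF hHK h1 (hYr (b - b') (Y.sub_mem hb hb'Y)) (by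
      rw [herm_add_left hF, h_sub_right hF, hab, hab', hY b' hb'Y _ (Y.sub_mem hb hb'Y), zero_sub, add_zero]
      exact neg_ne_zero.mpr hδ0) (by rw [show a + b' + (b - b') = a + b by abel]; exact hv)
    rwa [show a + b' + (b - b') = a + b by abel] at h3
  · exact root_add hF hHK (hXr a ha) (hYr b hb) hab hv

end Cfsg.Agent.Lib.SUFour91
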